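import Cfsg.Agent.H283.RkTwo.GLev
import Cfsg.Agent.S0319
import Cfsg.Agent.S0315

/-!
# From an irreducible (B,N)-pair of rank two, whose parameters are powers of `p`

* `dich` : a normal subgroup is contained in `B` or is chamber transitive;
* `not_dvd_index` : `p` does not divide `|G : B|`;
* `geo` : the data `Geo`;
* `rank_of_split` : a split (B,N)-pair of characteristic `p` of the simple normal subgroup `T` has rank two.
-/

set_option autoImplicit false

namespace Cfsg.Agent.H283.RkTwo

open Subgroup Cfsg Cfsg.Agent.LieExceptional.BNPairCore Cfsg.Agent.Tits.Core Cfsg.Agent.Tits.Core.Bldg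
  Cfsg.Agent.Tits.OfBN Cfsg.Agent.Schreier.BNSch Cfsg.Agent.Tits.OppRes Cfsg.Agent.FixBN Cfsg.Agent.FixBN.OfBN

variable {G : Type*} [Group G]

/-- A normal subgroup of a group with an irreducible (B,N)-pair. -/
theorem dich (P : Cfsg.BNPair G) (hirr : P.Irreducible) (H : Subgroup G) [H.Normal] : H ≤ P.B ∨ H ⊔ P.B = ⊤ := by
  obtain ⟨J, hJ, hHJ⟩ : ∃ J ⊆ P.S, H ⊔ P.B = P.parabolic J := ⟨_, Set.inter_subset_left, eq_parabolic le_sup_right⟩
  rcases J.eq_empty_or_nonempty with rfl | hJne
  · left
    rw [parabolic_empty] at hHJ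
    exact hHJ ▸ le_sup_left
  · right
    rcases (P.S \ J).eq_empty_or_nonempty with hemp | hne
    · have hJS : J = P.S := Set.Subset.antisymm hJ (Set.sdiff_eq_empty.1 hemp)
      rw [hHJ, hJS, parabolic_S_eq_top]
    · obtain ⟨s, hs, s', hs', h1⟩ := hirr J hJ hJne hne
      exact absurd (S0319.commute_of_normal P H hJ hHJ hs hs') h1

/-- the index does not change along a double coset -/
theorem relIndex_conj {B : Subgroup G} {s a b : G} (ha : a ∈ B) (hb : b ∈ B) :
    (B ⊓ B.map (MulAut.conj (a * s * b)).toMonoidHom).relIndex B = (B ⊓ B.map (MulAut.conj s).toMonoidHom).relIndex B := by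
  have h3 : B = B.map (MulAut.conj a).toMonoidHom := by
    ext x
    rw [mem_map_equiv, MulAut.conj_symm_apply]
    constructor
    · intro hx
      exact mul_mem (mul_mem (inv_mem ha) hx) ha
    · intro hx
      have h5 := mul_mem (mul_mem ha hx) (inv_mem ha)
      have h6 : a * (a⁻¹ * x * a) * a⁻¹ = x := by group
      rwa [h6] at h5
  have h2 : B.map (MulAut.conj (a * s * b)).toMonoidHom =
      (B.map (MulAut.conj s).toMonoidHom).map (MulAut.conj a).toMonoidHom := by
    ext x
    rw [mem_map_equiv, mem_map_equiv, mem_map_equiv, MulAut.conj_symm_apply, MulAut.conj_symm_apply,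
      MulAut.conj_symm_apply]
    have h3 : (a * s * b)⁻¹ * x * (a * s * b) = b⁻¹ * (s⁻¹ * (a⁻¹ * x * a) * s) * b := by group
    rw [h3]
    constructor
    · intro h4
      have h5 := mul_mem (mul_mem hb h4) (inv_mem hb)
      have h6 : b * (b⁻¹ * (s⁻¹ * (a⁻¹ * x * a) * s) * b) * b⁻¹ = s⁻¹ * (a⁻¹ * x * a) * s := by group
      rwa [h6] at h5
    · intro h4
      exact mul_mem (mul_mem (inv_mem hb) h4) hb
  have h5 : B ⊓ B.map (MulAut.conj (a * s * b)).toMonoidHom =
      (B ⊓ B.map (MulAut.conj s).toMonoidHom).map (MulAut.conj a).toMonoidHom := by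
    rw [Subgroup.map_inf _ _ _ (MulAut.conj a).injective, ← h3, h2]
  rw [h5]
  conv_lhs => rw [h3]
  rw [← h3]
  conv_lhs => arg 2; rw [h3]
  rw [Subgroup.relIndex_map_map_of_injective _ _ (MulAut.conj a).injective]

variable (P : Cfsg.BNPair G) {p : ℕ}

/-- the parameters are powers of `p` -/
def ParamPow (p : ℕ) : Prop :=
  ∀ s ∈ P.S, ∃ a, (P.B ⊓ P.B.map (MulAut.conj s).toMonoidHom).relIndex P.B = p ^ a

theorem side [Finite G] (hq : ParamPow P p) {s : G} (hs : s ∈ P.S) (h2 : P.rank = 2) : Side p P.B (P.parabolic {s}) where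
  le := B_le_parabolic P _
  ne := (B_lt_parabolic P hs).ne
  ne_top := by
    intro h
    have h3 : P.parabolic {s} = P.parabolic P.S := by rw [h, parabolic_S_eq_top]
    have h4 : P.S ⊆ {s} := (parabolic_le_iff P le_rfl (Set.singleton_subset_iff.2 hs)).1 h3.ge
    have h5 : P.S = {s} := Set.Subset.antisymm h4 (Set.singleton_subset_iff.2 hs)
    have h6 : Nat.card P.S = 1 := by rw [h5]; simp
    have h7 : Nat.card P.S = 2 := h2
    omega
  tr := by
    intro x hx hxB y hy hyB
    rcases mem_parabolic_singleton P hs hx with h | ⟨a, ha, b, hb, rfl⟩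
    · exact absurd h hxB
    rcases mem_parabolic_singleton P hs hy with h | ⟨a', ha', b', hb', rfl⟩
    · exact absurd h hyB
    exact ⟨a' * a⁻¹, mul_mem ha' (inv_mem ha), b⁻¹ * b', mul_mem (inv_mem hb) hb', by group⟩
  pw := by
    intro x hx hxB
    rcases mem_parabolic_singleton P hs hx with h | ⟨a, ha, b, hb, rfl⟩
    · exact absurd h hxB
    rw [relIndex_conj ha hb]
    exact hq s hs

/-- **`p` does not divide `|G : B|`.** -/
theorem not_dvd_index [Finite G] [hp : Fact p.Prime] (hq : ParamPow P p) : ¬ p ∣ P.B.index := by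
  have hN : ((P.B ⊓ P.N).subgroupOf P.N).Normal := Cfsg.Agent.Tits.OfBN.normal_subgroupOf P
  obtain ⟨M, cs, hcs⟩ := Cfsg.Agent.S0320.result P
  set e : P.S ≃ P.S := Equiv.refl P.S with he
  have hI : Finite P.S := finite_I e
  have hC : Cox cs := inferInstance
  set Δ := bldg P e cs hcs with hΔ
  have hiso : ∀ (g : G) (a b : G ⧸ P.B), Δ.δ (g • a) (g • b) = Δ.δ a b := fun g a b => dist_smul P g a b
  obtain ⟨Q⟩ : Nonempty (Sylow p P.B) := inferInstance
  have hQ : IsPGroup p (Q : Subgroup P.B) := Q.2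
  have h1 := hQ.card_modEq_card_fixedPoints (α := G ⧸ P.B)
  have h2 : MulAction.fixedPoints (Q : Subgroup P.B) (G ⧸ P.B) = {cc P} := by
    ext z
    rw [Set.mem_singleton_iff]
    constructor
    · intro hz
      by_contra hne
      have h3 : Δ.δ z (cc P) ≠ 1 := fun h => hne ((Δ.eq_one _ _).1 h)
      obtain ⟨i, hi⟩ := cs.exists_rightDescent_of_ne_one h3
      rw [CoxeterSystem.IsRightDescent] at hi
      obtain ⟨x, hx1, hx2⟩ := Δ.exists_step z (cc P) i
      -- the stabiliser of `z` fixes `x`
      have h4 : ∀ b ∈ P.B, b • z = z → b • x = x := by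
        intro b hb hbz
        have hbc : b • cc P = cc P := smul_cc.2 hb
        have e1 : Δ.δ z (b • x) = Δ.δ z x := by
          conv_lhs => rw [← hbz]
          exact hiso b z x
        have e2 : Δ.δ (cc P) (b • x) = cs.simple i := by
          rw [← hx1]
          conv_lhs => rw [← hbc]
          exact hiso b (cc P) x
        refine Tits.Rigid.eq_of_short (Δ := Δ) (j := i) e1 rfl ?_ ?_
        · rw [hx2, mul_assoc, cs.simple_mul_simple_self, mul_one]
          exact hi
        · refine Tits.Rigid.mem_Pan_Res ?_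
          refine Δ.mem_Pan_trans (y := cc P) ?_ (Or.inr hx1)
          exact Δ.mem_Pan_symm (Or.inr e2)
      -- the stabiliser of `x`
      obtain ⟨g, rfl⟩ := exists_smul_cc x
      have h5 : g ∈ C P (e i : G) := by
        have h6 : Δ.δ (cc P) (g • cc P) = wt P g := by
          have h7 : g • cc P = QuotientGroup.mk g := by unfold cc; rw [smul_mk, mul_one]
          rw [h7]
          show Tits.OfBN.dist P (QuotientGroup.mk 1) (QuotientGroup.mk g) = _
          rw [Tits.OfBN.dist_mk, inv_one, one_mul]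
        rw [h6, hcs] at hx1
        exact mem_C_of_wt P hx1
      obtain ⟨a, ha, b, hb, rfl⟩ := mem_C.1 h5
      obtain ⟨k, hk⟩ := hq (e i) (e i).2
      rw [← relIndex_conj ha hb] at hk
      set D := P.B ⊓ P.B.map (MulAut.conj (a * (e i : G) * b)).toMonoidHom with hD
      have h6 : (Q : Subgroup P.B) ≤ D.subgroupOf P.B := by
        intro v hv
        rw [mem_subgroupOf, hD, mem_inf]
        refine ⟨v.2, ?_⟩
        have h7 : (v : G) • z = z := hz ⟨v, hv⟩
        have h8 := h4 v v.2 h7
        rw [mem_map_equiv, MulAut.conj_symm_apply]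
        rw [← mul_smul, eq_comm, smul_cc_eq, ← mul_assoc] at h8
        exact h8
      have h7 : (D.subgroupOf P.B).index ∣ (Q : Subgroup P.B).index := Subgroup.index_dvd_of_le h6
      have h8 : (D.subgroupOf P.B).index = p ^ k := hk
      rw [h8] at h7
      have h9 : k = 0 := by
        by_contra hk0
        exact Q.not_dvd_index ((dvd_pow_self p hk0).trans h7)
      rw [h9, pow_zero, Subgroup.index_eq_one, subgroupOf_eq_top] at h8
      -- `B` fixes `x`, but the panel is thick
      obtain ⟨y₁, y₂, hy12, hy1, hy2⟩ := thick P e cs hcs (cc P) i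
      have h10 : ∀ y, Δ.δ (cc P) y = cs.simple i → y = (a * (e i : G) * b) • cc P := by
        intro y hy
        obtain ⟨g', hg1, hg2⟩ := Cfsg.Agent.Tits.OfBN.trans P (cc P) ((a * (e i : G) * b) • cc P) (cc P) y
          (show Δ.δ (cc P) ((a * (e i : G) * b) • cc P) = Δ.δ (cc P) y by rw [hx1, hy])
        have h11 := h8 (smul_cc.1 hg1)
        rw [hD, mem_inf, mem_map_equiv, MulAut.conj_symm_apply] at h11
        rw [← hg2, ← mul_smul, eq_comm, smul_cc_eq, ← mul_assoc]
        exact h11.2
      exact hy12 ((h10 y₁ hy1).trans (h10 y₂ hy2).symm)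
    · rintro rfl ⟨v, hv⟩
      exact smul_cc.2 v.2
  rw [h2] at h1
  have h1' : Nat.card (G ⧸ P.B) ≡ 1 [MOD p] := by simpa using h1
  intro h3
  have h4 : Nat.card (G ⧸ P.B) ≡ 0 [MOD p] := (Nat.modEq_zero_iff_dvd).2 h3
  have h5 := h4.symm.trans h1'
  rw [Nat.ModEq, Nat.zero_mod, Nat.mod_eq_of_lt hp.1.one_lt] at h5
  exact absurd h5 (by norm_num)

/-- **The data of the two vertex groups.** -/
theorem geo [Finite G] [hp : Fact p.Prime] (h2 : P.rank = 2) (hirr : P.Irreducible) (hcore : P.B.normalCore = ⊥)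
    (hq : ParamPow P p) (T : Subgroup G) [hT : T.Normal] [Nontrivial T] :
    ∃ G₁ G₂ : Subgroup G, Geo p T P.B G₁ G₂ := by
  obtain ⟨s, hs, t, ht, hne, hS⟩ : ∃ s ∈ P.S, ∃ t ∈ P.S, s ≠ t ∧ P.S = {s, t} := by
    obtain ⟨s, t, hst, hSt⟩ := Nat.card_eq_two_iff.1 (show Nat.card P.S = 2 from h2)
    refine ⟨s, s.2, t, t.2, fun h => hst (Subtype.ext h), ?_⟩
    ext x
    constructor
    · intro hx
      have h3 : (⟨x, hx⟩ : P.S) ∈ ({s, t} : Set P.S) := by rw [hSt]; trivial
      rcases h3 with h3 | h3
      · left; exact congrArg Subtype.val h3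
      · right; exact congrArg Subtype.val h3
    · rintro (rfl | rfl)
      · exact s.2
      · exact t.2
  refine ⟨P.parabolic {s}, P.parabolic {t}, side P hq hs h2, side P hq ht h2, ?_, ?_, ?_, not_dvd_index P hq⟩
  · rw [Cfsg.Agent.S0315.result P (Set.singleton_subset_iff.2 hs) (Set.singleton_subset_iff.2 ht)]
    have h3 : ({s} : Set G) ∩ {t} = ∅ := by
      rw [Set.eq_empty_iff_forall_notMem]
      rintro x ⟨h3, h4⟩
      exact hne ((Set.mem_singleton_iff.1 h3).symm.trans (Set.mem_singleton_iff.1 h4))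
    rw [h3, parabolic_empty]
  · intro X hX
    have h3 := eq_parabolic (P := P) hX
    by_cases h4 : s ∈ X <;> by_cases h5 : t ∈ X
    · right; right; right
      have h6 : P.S ∩ (X : Set G) = P.S := by
        rw [Set.inter_eq_left, hS]
        rintro x (rfl | rfl)
        · exact h4
        · exact h5
      rw [h3, h6, parabolic_S_eq_top]
    · right; left
      have h6 : P.S ∩ (X : Set G) = {s} := by
        rw [hS]
        ext x
        simp only [Set.mem_inter_iff, Set.mem_insert_iff, Set.mem_singleton_iff, SetLike.mem_coe]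
        constructor
        · rintro ⟨rfl | rfl, h7⟩
          · rfl
          · exact absurd h7 h5
        · rintro rfl
          exact ⟨Or.inl rfl, h4⟩
      rw [h3, h6]
    · right; right; left
      have h6 : P.S ∩ (X : Set G) = {t} := by
        rw [hS]
        ext x
        simp only [Set.mem_inter_iff, Set.mem_insert_iff, Set.mem_singleton_iff, SetLike.mem_coe]
        constructor
        · rintro ⟨rfl | rfl, h7⟩
          · exact absurd h7 h4
          · rfl
        · rintro rfl
          exact ⟨Or.inr rfl, h5⟩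
      rw [h3, h6]
    · left
      have h6 : P.S ∩ (X : Set G) = ∅ := by
        rw [hS, Set.eq_empty_iff_forall_notMem]
        rintro x ⟨rfl | rfl, h7⟩
        · exact h4 h7
        · exact h5 h7
      rw [h3, h6, parabolic_empty]
  · rcases dich P hirr T with h3 | h3
    · exfalso
      have h4 : T ≤ P.B.normalCore := Subgroup.normal_le_normalCore.2 h3
      rw [hcore, le_bot_iff] at h4
      exact (Subgroup.nontrivial_iff_ne_bot T).1 inferInstance h4
    · exact h3

/-- **Rank two.** -/
theorem rank_of_split [Finite G] [hp : Fact p.Prime] (h2 : P.rank = 2) (hirr : P.Irreducible)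
    (hcore : P.B.normalCore = ⊥) (hq : ParamPow P p) (T : Subgroup G) [hT : T.Normal] [IsSimpleGroup T]
    {P' : Cfsg.BNPair T} {U : Subgroup T} (S : Split P' p U) (hS : P'.S.Nonempty) : P'.rank = 2 := by
  have : Nontrivial T := IsSimpleGroup.toNontrivial
  obtain ⟨G₁, G₂, h⟩ := geo P h2 hirr hcore hq T
  exact rank_eq_two S hS h

end Cfsg.Agent.H283.RkTwo
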