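import Cfsg.Agent.H580.LieFam
import Cfsg.Agent.Mrg.Omega.ML.LieRow.Lie
import Cfsg.Agent.H690.LieRow

/-!
# The simple groups of Lie type of characteristic `p` of rank two

`list_of_lie` : if every split (B,N)-pair of characteristic `p` of the group `G` of Lie type in characteristic `p` has rank
two then `G` is one of the groups of S3414.
-/

set_option autoImplicit false

namespace Cfsg.Agent.H283.RkTwo

open Cfsg CoxeterSystem Cfsg.Agent.ChevalleyStructure.CoxeterGeom Cfsg.Agent.Nodes.Reps Cfsg.Agent.Nodes.BNOf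
  Cfsg.Agent.Omega.ML.Ex.Typ Cfsg.Agent.FixBN

/-- The conclusion of S3414. -/
def Concl (K : Type*) [Group K] : Prop :=
  (∃ (F : Type) (_ : Field F) (_ : Fintype F), Nonempty (K ≃* Matrix.ProjectiveSpecialLinearGroup (Fin 3) F)) ∨
    (∃ (F : Type) (_ : Field F) (_ : Fintype F), 3 ≤ Fintype.card F ∧ Nonempty (K ≃* Cfsg.PSp 2 F)) ∨
    Nonempty (K ≃* alternatingGroup (Fin 6)) ∨
    (∃ (F : Type) (_ : Field F) (_ : Fintype F) (q : ℕ), Fintype.card F = q ^ 2 ∧ Nonempty (K ≃* Cfsg.PSU 4 F q)) ∨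
    (∃ (F : Type) (_ : Field F) (_ : Fintype F) (q : ℕ), Fintype.card F = q ^ 2 ∧ Nonempty (K ≃* Cfsg.PSU 5 F q)) ∨
    Cfsg.Lie.IsoChevG2 K ∨
    (∃ (F : Type) (_ : Field F) (_ : Fintype F), Fintype.card F = 9 ∧ Nonempty (K ≃* Cfsg.PSU 3 F 3)) ∨
    Cfsg.Lie.Iso3D4 K ∨ Cfsg.Lie.Iso2F4 K ∨ Cfsg.Lie.IsoTits K

variable {p : ℕ} {G : Type*} [Group G]

/-- all split pairs have rank two -/
def AllTwo (p : ℕ) (G : Type*) [Group G] : Prop :=
  ∀ (P : Cfsg.BNPair G) (U : Subgroup G), Split P p U → P.S.Nonempty → P.rank = 2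

theorem eq_two [IsSimpleGroup G] (hp : p.Prime) (hR : AllTwo p G) {l : ℕ} {M : CoxeterMatrix (Fin l)} (hl : 0 < l)
    (h : HasRGDT p M G) : l = 2 := by
  obtain ⟨P, U, e, h1, h2⟩ := h.hasSplitT hp hl
  have h3 := hR P U h1 ⟨e ⟨0, hl⟩, (e ⟨0, hl⟩).2⟩
  have h4 : Nat.card (Fin l) = Nat.card P.S := Nat.card_congr e
  rw [Nat.card_fin] at h4
  rw [h4]
  exact h3

theorem rank_mapBN {K L : Type*} [Group K] [Group L] (e : K ≃* L) (P : Cfsg.BNPair K) :
    (Transport.mapBN e P).rank = P.rank := Nat.card_image_of_injective e.injective P.S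

theorem not_suzuki (hR : AllTwo 2 G) (h : Lie.IsoSuzuki G) : False := by
  obtain ⟨K, i1, i2, m, hm, hK, ⟨e⟩⟩ := h
  have H := Cfsg.Agent.LieRecognition.SzMatrix.good hK
  have hs : IsSimpleGroup ↥(Cfsg.Lie.Sz K (2 ^ (m + 1))) := Cfsg.Agent.S1162.result hm hK
  have h1 := Omega.ML.LieRow.SzSplit.split hm hK H hs
  have h2 := hR _ _ (Transport.split e.symm _ h1) ⟨_, _, rfl, rfl⟩
  rw [rank_mapBN] at h2
  have h3 : (Omega.ML.LieRow.SzSplit.bnPair H).rank = 1 := by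
    have : (Omega.ML.LieRow.SzSplit.bnPair H).S = {H.w} := rfl
    show Nat.card (Omega.ML.LieRow.SzSplit.bnPair H).S = 1
    rw [this]
    simp
  omega

theorem not_ree (hR : AllTwo 3 G) (h : Lie.IsoRee G) : False := by
  obtain ⟨K, i1, i2, m, hm, hK, ⟨e⟩⟩ := h
  obtain ⟨U, h, n, D⟩ := Cfsg.Agent.ChevalleyStructure.Ree.Data.exists_data hK
  have h1 := ReeSplit.split hK D
  have h2 := hR _ _ (Transport.split e.symm _ h1) ⟨_, _, rfl, rfl⟩
  rw [rank_mapBN] at h2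
  have h3 : (ReeSplit.bnPair D).rank = 1 := by
    have : (ReeSplit.bnPair D).S = {n} := rfl
    show Nat.card (ReeSplit.bnPair D).S = 1
    rw [this]
    simp
  omega

/-- **The groups of Lie type of characteristic `p` of rank two.** -/
theorem list_of_lie [IsSimpleGroup G] (hp : p.Prime) (hR : AllTwo p G) (hG : IsLieTypeChar p G) : Concl G := by
  have hfp : Fact p.Prime := ⟨hp⟩
  rcases hG with h | h | h | h | h | h | h | h | h | h | h
  · obtain ⟨F, i1, i2, _, n, hn, -, ⟨e⟩⟩ := h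
    obtain ⟨n, rfl⟩ : ∃ k, n = k + 1 := ⟨n - 1, by omega⟩
    obtain rfl := eq_two hp hR (by omega) ((typ_PSL (F := F) (p := p) n).of_equiv e.symm)
    exact Or.inl ⟨F, i1, i2, ⟨e⟩⟩
  · obtain ⟨F, i1, i2, _, m, hm, h3, ⟨e⟩⟩ := h
    obtain rfl := eq_two hp hR (by omega) ((typ_PSp (F := F) (p := p) (m := m) (by omega)).of_equiv e.symm)
    exact Or.inr (Or.inl ⟨F, i1, i2, h3 rfl, ⟨e⟩⟩)
  · obtain ⟨F, i1, i2, _, n, q, hF, hn, -, ⟨e⟩⟩ := h
    obtain ⟨m, hm, h6⟩ := typ_PSU (F := F) (p := p) hF hn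
    obtain rfl := eq_two hp hR (by omega) (h6.of_equiv e.symm)
    rcases hm with rfl | rfl
    · exact Or.inr (Or.inr (Or.inr (Or.inl ⟨F, i1, i2, q, hF, ⟨e⟩⟩)))
    · exact Or.inr (Or.inr (Or.inr (Or.inr (Or.inl ⟨F, i1, i2, q, hF, ⟨e⟩⟩))))
  · exfalso
    obtain ⟨F, _, _, _, m, hm, hodd, ⟨e⟩⟩ := h
    have h2 : (2 : F) ≠ 0 := by
      intro h0
      have h3 : CharP F 2 := CharTwo.of_one_ne_zero_of_two_eq_zero one_ne_zero h0
      obtain ⟨k, -, hk⟩ := FiniteField.card F 2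
      rw [hk] at hodd
      exact absurd hodd (by
        rw [Nat.not_odd_iff_even]
        exact (even_two).pow_of_ne_zero k.ne_zero)
    have := eq_two hp hR (by omega) ((H580.LieFam.typ_PO_odd (p := p) h2 (by omega)).of_equiv e.symm)
    omega
  · exfalso
    obtain ⟨F, _, _, _, m, hm, ⟨e⟩⟩ := h
    obtain ⟨n, rfl⟩ : ∃ n, m = n + 3 := ⟨m - 3, by omega⟩
    have := eq_two hp hR (by omega) ((typ_PO_plus (F := F) (p := p) n).of_equiv e.symm)
    omega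
  · exfalso
    obtain ⟨F, _, _, _, m, a, b, hm, hab, ⟨e⟩⟩ := h
    have := eq_two hp hR (by omega) ((typ_PO_minus (F := F) (p := p) (m := m - 1) hab (by omega)).of_equiv e.symm)
    omega
  · obtain ⟨F, i1, i2, _, ⟨h3, ⟨e⟩⟩ | ⟨⟨e⟩⟩ | ⟨⟨e⟩⟩ | ⟨⟨e⟩⟩ | ⟨⟨e⟩⟩⟩ := h
    · exact Or.inr (Or.inr (Or.inr (Or.inr (Or.inr (Or.inl ⟨F, i1, i2, h3, ⟨e⟩⟩)))))
    · exfalso
      have := eq_two hp hR (by omega) ((typ_group (by
        simp [Cfsg.Agent.Nodes.RGDChev.IsType, Cfsg.Agent.Nodes.RGDChev.typeList]) F p :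
          HasRGDT p CoxeterMatrix.F₄ ↥(Lie.chevF4.group F)).of_equiv e.symm)
      omega
    · exfalso
      have := eq_two hp hR (by omega) ((typ_group (by
        simp [Cfsg.Agent.Nodes.RGDChev.IsType, Cfsg.Agent.Nodes.RGDChev.typeList]) F p :
          HasRGDT p CoxeterMatrix.E₆ ↥(Lie.chevE6.group F)).of_equiv e.symm)
      omega
    · exfalso
      have := eq_two hp hR (by omega) ((typ_group (by
        simp [Cfsg.Agent.Nodes.RGDChev.IsType, Cfsg.Agent.Nodes.RGDChev.typeList]) F p :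
          HasRGDT p CoxeterMatrix.E₇ ↥(Lie.chevE7.group F)).of_equiv e.symm)
      omega
    · exfalso
      have := eq_two hp hR (by omega) ((typ_group (by
        simp [Cfsg.Agent.Nodes.RGDChev.IsType, Cfsg.Agent.Nodes.RGDChev.typeList]) F p :
          HasRGDT p CoxeterMatrix.E₈ ↥(Lie.chevE8.group F)).of_equiv e.symm)
      omega
  · obtain ⟨K, i1, i2, _, q, hq, ⟨hK, ⟨e⟩⟩ | ⟨hK, ⟨e⟩⟩⟩ := h
    · exfalso
      have := eq_two hp hR (by omega) ((typ_twE6 hq hK p).of_equiv e.symm)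
      omega
    · exact Or.inr (Or.inr (Or.inr (Or.inr (Or.inr (Or.inr (Or.inr (Or.inl ⟨K, i1, i2, q, hq, hK, ⟨e⟩⟩)))))))
  · obtain ⟨rfl, h⟩ := h
    exact absurd h (fun h => not_suzuki hR h)
  · exact Or.inr (Or.inr (Or.inr (Or.inr (Or.inr (Or.inr (Or.inr (Or.inr (Or.inl h.2))))))))
  · obtain ⟨rfl, h⟩ := h
    exact absurd h (fun h => not_ree hR h)

end Cfsg.Agent.H283.RkTwo
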