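import Cfsg.Agent.H283.RkTwo.OfBN
import Cfsg.Agent.H283.RkTwo.List

/-!
# S3414, part (4): the parameters are powers of `p` and the simple normal subgroup `T` is of Lie type in characteristic `p`

`main` : then `T` is one of the groups of the list of S3414.
-/

set_option autoImplicit false

namespace Cfsg.Agent.H283.RkTwo

open Cfsg

/-- **Part (4) of S3414.** -/
theorem main {G : Type*} [Group G] [Finite G] (P : Cfsg.BNPair G) (h2 : P.rank = 2) (hirr : P.Irreducible)
    (hcore : P.B.normalCore = ⊥) {p : ℕ} (hp : p.Prime)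
    (hq : ∀ s ∈ P.S, ∃ a : ℕ, (P.B ⊓ P.B.map (MulAut.conj s).toMonoidHom).relIndex P.B = p ^ a)
    (T : Subgroup G) [hT : T.Normal] [IsSimpleGroup T] (hL : Cfsg.IsLieTypeChar p T) : Concl T := by
  have : Fact p.Prime := ⟨hp⟩
  exact list_of_lie hp (fun P' U S hS => rank_of_split P h2 hirr hcore hq T S hS) hL

end Cfsg.Agent.H283.RkTwo
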