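import Cfsg.Agent.H283.RkTwo.NoPp
import Cfsg.Agent.Lib.MinNormalNonabelian

/-!
# A minimal normal subgroup is simple

`G` with an irreducible (B,N)-pair of rank two, `B` core-free, parameters powers of `p`.

`exists_simple` : `G` has a simple non-abelian normal subgroup `T`, `T ⊔ B = ⊤`, `p` divides `|T|`.
-/

set_option autoImplicit false

namespace Cfsg.Agent.H283.RkTwo

open Subgroup Cfsg Cfsg.Agent.LieExceptional.BNPairCore Cfsg.Agent.Schreier.BNSch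
open Cfsg.Agent.Lib.MinNormal (map_conj_normal le_normalizer_sSup commute_of_disjoint)
open Cfsg.Agent.Lib.MinNormalNonabelian

section Abs

variable {G : Type*} [Group G] {p : ℕ} {T B G₁ G₂ : Subgroup G}

/-- the group generated by the factors other than `S` -/
def Cof (T S : Subgroup G) : Subgroup G := T ⊓ centralizer (S : Set G)

/-- The facts on the factors. -/
structure Fac (T : Subgroup G) (F : Set (Subgroup G)) : Prop where
  le : ∀ S ∈ F, S ≤ T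
  nrm : ∀ S ∈ F, T ≤ normalizer (S : Set G)
  min : ∀ S ∈ F, ∀ R ≤ S, T ≤ normalizer (R : Set G) → R = ⊥ ∨ R = S
  cls : ∀ S ∈ F, ∀ g : G, S.map (MulAut.conj g).toMonoidHom ∈ F
  com : ∀ S ∈ F, ∀ R ∈ F, S ≠ R → R ≤ centralizer (S : Set G)
  sup : ∀ S ∈ F, S ⊔ Cof T S = T
  conj : ∀ S ∈ F, ∀ R ∈ F, ∃ g : G, R = S.map (MulAut.conj g).toMonoidHom
  gen : sSup F = T

theorem cof_map (T : Subgroup G) [hT : T.Normal] (S : Subgroup G) (g : G) :
    (Cof T S).map (MulAut.conj g).toMonoidHom = Cof T (S.map (MulAut.conj g).toMonoidHom) := by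
  unfold Cof
  rw [Subgroup.map_inf _ _ _ (MulAut.conj g).injective, map_conj_normal]
  congr 1
  ext x
  rw [mem_map_equiv, MulAut.conj_symm_apply, mem_centralizer_iff, mem_centralizer_iff]
  constructor
  · rintro h _ ⟨s, hs, rfl⟩
    have h1 := h s hs
    simp only [MulEquiv.coe_toMonoidHom, MulAut.conj_apply]
    calc g * s * g⁻¹ * x = g * (s * (g⁻¹ * x * g)) * g⁻¹ := by group
      _ = g * (g⁻¹ * x * g * s) * g⁻¹ := by rw [h1]
      _ = x * (g * s * g⁻¹) := by group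
  · intro h s hs
    have h1 := h (g * s * g⁻¹) ⟨s, hs, rfl⟩
    calc s * (g⁻¹ * x * g) = g⁻¹ * (g * s * g⁻¹ * x) * g := by group
      _ = g⁻¹ * (x * (g * s * g⁻¹)) * g := by rw [h1]
      _ = g⁻¹ * x * g * s := by group

theorem commute_cof {S : Subgroup G} {a c : G} (ha : a ∈ S) (hc : c ∈ Cof T S) : a * c = c * a :=
  (mem_centralizer_iff.1 (mem_inf.1 hc).2) a ha

variable {F : Set (Subgroup G)}

/-- decomposition -/
theorem Fac.dec (hF : Fac T F) {S : Subgroup G} (hS : S ∈ F) {t : G} (ht : t ∈ T) :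
    ∃ a ∈ S, ∃ c ∈ Cof T S, t = a * c := by
  have h1 : t ∈ S ⊔ Cof T S := by rw [hF.sup S hS]; exact ht
  have h2 : Cof T S ≤ normalizer (S : Set G) := inf_le_left.trans (hF.nrm S hS)
  have h3 := Subgroup.coe_mul_of_right_le_normalizer_left S (Cof T S) h2
  have h4 : t ∈ ((S ⊔ Cof T S : Subgroup G) : Set G) := h1
  rw [h3] at h4
  obtain ⟨a, ha, c, hc, rfl⟩ := h4
  exact ⟨a, ha, c, hc, rfl⟩

/-- `T` normalises the cofactors -/
theorem Fac.nrm_cof (hF : Fac T F) {S : Subgroup G} (hS : S ∈ F) {t c : G} (ht : t ∈ T) (hc : c ∈ Cof T S) :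
    t * c * t⁻¹ ∈ Cof T S := by
  refine mem_inf.2 ⟨mul_mem (mul_mem ht (mem_inf.1 hc).1) (inv_mem ht), ?_⟩
  rw [mem_centralizer_iff]
  intro s hs
  have h1 := (mem_normalizer_iff.1 (hF.nrm S hS (inv_mem ht)) s).1 hs
  rw [inv_inv] at h1
  have h2 := commute_cof h1 hc
  calc s * (t * c * t⁻¹) = t * (t⁻¹ * s * t * c) * t⁻¹ := by group
    _ = t * (c * (t⁻¹ * s * t)) * t⁻¹ := by rw [h2]
    _ = t * c * t⁻¹ * s := by group

variable [hT : T.Normal]

/-- conjugates under `B` -/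
theorem Fac.conjB (hF : Fac T F) (hsup : T ⊔ B = ⊤) {S R : Subgroup G} (hS : S ∈ F) (hR : R ∈ F) :
    ∃ b ∈ B, R = S.map (MulAut.conj b).toMonoidHom := by
  obtain ⟨g, rfl⟩ := hF.conj S hS R hR
  have h1 : g ∈ T ⊔ B := by rw [hsup]; trivial
  rw [mem_sup_of_normal_left] at h1
  obtain ⟨t, ht, b, hb, rfl⟩ := h1
  refine ⟨b, hb, ?_⟩
  rw [← Cfsg.Agent.Lib.MinNormal.map_conj_map_conj]
  exact mem_normalizer_iff_map_conj_eq.1 (hF.nrm _ (hF.cls S hS b) ht)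

section

variable {X : Subgroup G} (hF : Fac T F) (hsup : T ⊔ B = ⊤) (hBX : B ≤ X) (hX : X ≠ ⊤)

include hF hsup hBX hX in
theorem not_le {S : Subgroup G} (hS : S ∈ F) : ¬ S ≤ X := by
  intro h1
  apply hX
  rw [eq_top_iff, ← hsup]
  refine sup_le ?_ hBX
  rw [← hF.gen]
  refine sSup_le fun R hR => ?_
  obtain ⟨b, hb, rfl⟩ := hF.conjB hsup hS hR
  rintro _ ⟨s, hs, rfl⟩
  exact mul_mem (mul_mem (hBX hb) (h1 hs)) (inv_mem (hBX hb))

variable [Finite G] (hmax : ∀ Z, X ≤ Z → Z = X ∨ Z = ⊤) (hidx : ¬ p ∣ X.relIndex T)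
  (hpS : ∀ S ∈ F, p ∣ Nat.card S)

include hF hsup hBX hX hidx hpS

/-- (ii) -/
theorem sup_ne {S : Subgroup G} (hS : S ∈ F) : ¬ T ≤ (T ⊓ X) ⊔ Cof T S := by
  intro h
  have h1 : T ≤ normalizer ((S ⊓ X : Subgroup G) : Set G) := by
    intro t ht
    have h2 : T ⊓ X ≤ normalizer (Cof T S : Set G) := by
      intro y hy
      exact mem_normalizer_of_le fun c hc => hF.nrm_cof hS (mem_inf.1 hy).1 hc
    have h3 := Subgroup.coe_mul_of_left_le_normalizer_right (T ⊓ X) (Cof T S) h2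
    have h4 : t ∈ (((T ⊓ X) ⊔ Cof T S : Subgroup G) : Set G) := h ht
    rw [h3] at h4
    obtain ⟨y, hy, c, hc, rfl⟩ := h4
    refine mem_normalizer_of_le fun s hs => ?_
    have h5 : c * s * c⁻¹ = s := by
      rw [← commute_cof (mem_inf.1 hs).1 hc]
      group
    have h6 : y * c * s * (y * c)⁻¹ = y * (c * s * c⁻¹) * y⁻¹ := by group
    rw [h6, h5]
    have h7 := (mem_inf.1 hy)
    exact mem_inf.2 ⟨(mem_normalizer_iff.1 (hF.nrm S hS h7.1) s).1 (mem_inf.1 hs).1,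
      mul_mem (mul_mem h7.2 (mem_inf.1 hs).2) (inv_mem h7.2)⟩
  rcases hF.min S hS _ inf_le_left h1 with h2 | h2
  · have hn : ∀ b ∈ T, ∀ d ∈ S, b * d * b⁻¹ ∈ S := fun b hb d hd => (mem_normalizer_iff.1 (hF.nrm S hS hb) d).1 hd
    have h3 := relIndex_dvd (S := X) (hF.le S hS) hn
    apply hidx
    refine dvd_trans ?_ h3
    have h4 : X.relIndex S = Nat.card S := by
      rw [← Subgroup.inf_relIndex_left, h2, Subgroup.relIndex_bot_left]
    rw [h4]
    exact hpS S hS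
  · exact not_le hF hsup hBX hX hS (h2 ▸ inf_le_right)

include hmax

/-- (iii) -/
theorem mem_of_proj {t : G} (ht : t ∈ T) (h : ∀ S ∈ F, t ∈ (T ⊓ X) ⊔ Cof T S) (hne : F.Nonempty) : t ∈ X := by
  set Y : Subgroup G := T ⊓ ⨅ S : F, ((T ⊓ X) ⊔ Cof T (S : Subgroup G)) with hY
  have hmemY : ∀ y, y ∈ Y ↔ y ∈ T ∧ ∀ S ∈ F, y ∈ (T ⊓ X) ⊔ Cof T S := by
    intro y
    rw [hY, mem_inf, mem_iInf]
    exact and_congr_right fun _ => ⟨fun h S hS => h ⟨S, hS⟩, fun h S => h S S.2⟩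
  have h1 : X ≤ normalizer (Y : Set G) := by
    intro x hx
    refine mem_normalizer_of_le fun y hy => ?_
    rw [hmemY] at hy ⊢
    refine ⟨hT.conj_mem y hy.1 x, fun R hR => ?_⟩
    have h2 := hy.2 _ (hF.cls R hR x⁻¹)
    have h3 : x * y * x⁻¹ ∈ ((T ⊓ X) ⊔ Cof T (R.map (MulAut.conj x⁻¹).toMonoidHom)).map (MulAut.conj x).toMonoidHom :=
      ⟨y, h2, rfl⟩
    rw [Subgroup.map_sup, cof_map, Cfsg.Agent.Lib.MinNormal.map_conj_map_conj, mul_inv_cancel,
      Cfsg.Agent.Lib.MinNormal.map_conj_one] at h3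
    have h4 : (T ⊓ X).map (MulAut.conj x).toMonoidHom = T ⊓ X := by
      rw [Subgroup.map_inf _ _ _ (MulAut.conj x).injective, map_conj_normal]
      congr 1
      exact mem_normalizer_iff_map_conj_eq.1 (le_normalizer hx)
    rwa [h4] at h3
  have h2 : T ⊓ X ≤ Y := by
    intro y hy
    rw [hmemY]
    exact ⟨(mem_inf.1 hy).1, fun S _ => mem_sup_left hy⟩
  rcases hmax (Y ⊔ X) le_sup_right with h3 | h3
  · have h4 : Y ≤ X := h3 ▸ le_sup_left
    exact h4 ((hmemY t).2 ⟨ht, h⟩)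
  · exfalso
    obtain ⟨S, hS⟩ := hne
    apply sup_ne hF hsup hBX hX hidx hpS hS
    intro u hu
    have h5 := Subgroup.coe_mul_of_right_le_normalizer_left Y X h1
    have h6 : u ∈ ((Y ⊔ X : Subgroup G) : Set G) := by rw [h3]; trivial
    rw [h5] at h6
    obtain ⟨y, hy, x, hx, rfl⟩ := h6
    have h7 : x ∈ T := by
      have h8 := mul_mem (inv_mem ((hmemY y).1 hy).1) hu
      simpa using h8
    have h8 : y * x ∈ Y := mul_mem hy (h2 (mem_inf.2 ⟨h7, hx⟩))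
    exact ((hmemY _).1 h8).2 S hS

/-- the projections of an element of `T ⊓ X` are in `X` -/
theorem proj_mem' {S : Subgroup G} (hS : S ∈ F) {a c : G} (ha : a ∈ S) (hc : c ∈ Cof T S) (h : a * c ∈ X) : a ∈ X := by
  refine mem_of_proj hF hsup hBX hX hmax hidx hpS (hF.le S hS ha) (fun R hR => ?_) ⟨S, hS⟩
  by_cases hRS : R = S
  · subst hRS
    have h1 : a * c ∈ T ⊓ X := mem_inf.2 ⟨mul_mem (hF.le R hS ha) (mem_inf.1 hc).1, h⟩
    have h2 := mul_mem (mem_sup_left (T := Cof T R) h1) (mem_sup_right (S := T ⊓ X) (inv_mem hc))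
    rwa [mul_inv_cancel_right] at h2
  · exact mem_sup_right (mem_inf.2 ⟨hF.le S hS ha, hF.com R hR S hS hRS ha⟩)

end

/-- the index of an overgroup of `B` in `T` -/
theorem not_dvd_relIndex [Finite G] [hp : Fact p.Prime] (hsup : T ⊔ B = ⊤) (hidx : ¬ p ∣ B.index) {X : Subgroup G} (hBX : B ≤ X) :
    ¬ p ∣ X.relIndex T := by
  intro h
  apply hidx
  have h1 : X.relIndex T ∣ X.index := by
    have h2 : T ⊔ X = ⊤ := eq_top_iff.2 (hsup ▸ sup_le_sup le_rfl hBX)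
    have e1 : T.relIndex (X ⊔ T) = T.relIndex X := Subgroup.relIndex_sup_right ..
    have e2 : (T ⊓ X).relIndex T * T.relIndex (X ⊔ T) = (T ⊓ X).relIndex (X ⊔ T) :=
      Subgroup.relIndex_mul_relIndex _ _ _ inf_le_left le_sup_right
    have e3 : (T ⊓ X).relIndex X * X.relIndex (X ⊔ T) = (T ⊓ X).relIndex (X ⊔ T) :=
      Subgroup.relIndex_mul_relIndex _ _ _ inf_le_right le_sup_left
    rw [Subgroup.inf_relIndex_left, e1] at e2
    rw [Subgroup.inf_relIndex_right, ← e2, mul_comm] at e3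
    have h0 : 0 < T.relIndex X := Nat.pos_of_ne_zero Subgroup.index_ne_zero_of_finite
    have h4 : X.relIndex (X ⊔ T) = X.relIndex T := Nat.eq_of_mul_eq_mul_right h0 e3
    rw [sup_comm, h2, Subgroup.relIndex_top_right] at h4
    rw [h4]
  exact (h.trans h1).trans (Subgroup.index_dvd_of_le hBX)

/-- **Only one factor.** -/
theorem fac_unique [Finite G] [hp : Fact p.Prime] (h : Geo p T B G₁ G₂) (hF : Fac T F) (hpS : ∀ S ∈ F, p ∣ Nat.card S)
    {S R : Subgroup G} (hS : S ∈ F) (hR : R ∈ F) : S = R := by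
  by_contra hne
  have hmax1 : ∀ Z, G₁ ≤ Z → Z = G₁ ∨ Z = ⊤ := by
    intro Z hZ
    rcases h.ovr Z (h.s1.le.trans hZ) with h1 | h1 | h1 | h1
    · exact absurd (le_antisymm h.s1.le (h1 ▸ hZ)) h.s1.ne
    · exact Or.inl h1
    · have h2 : G₁ ≤ G₂ := h1 ▸ hZ
      exact absurd (by rw [← h.inf, inf_eq_left.2 h2]) h.s1.ne
    · exact Or.inr h1
  have hmax2 : ∀ Z, G₂ ≤ Z → Z = G₂ ∨ Z = ⊤ := by
    intro Z hZ
    rcases h.ovr Z (h.s2.le.trans hZ) with h1 | h1 | h1 | h1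
    · exact absurd (le_antisymm h.s2.le (h1 ▸ hZ)) h.s2.ne
    · have h2 : G₂ ≤ G₁ := h1 ▸ hZ
      exact absurd (by rw [← h.inf, inf_eq_right.2 h2]) h.s2.ne
    · exact Or.inl h1
    · exact Or.inr h1
  have hi1 := not_dvd_relIndex h.sup h.idx h.s1.le
  have hi2 := not_dvd_relIndex h.sup h.idx h.s2.le
  have pj1 : ∀ {S' : Subgroup G} (_ : S' ∈ F) {a c : G} (_ : a ∈ S') (_ : c ∈ Cof T S') (_ : a * c ∈ G₁), a ∈ G₁ :=
    fun hS' _ _ ha hc h' => proj_mem' hF h.sup h.s1.le h.s1.ne_top hmax1 hi1 hpS hS' ha hc h'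
  have pj2 : ∀ {S' : Subgroup G} (_ : S' ∈ F) {a c : G} (_ : a ∈ S') (_ : c ∈ Cof T S') (_ : a * c ∈ G₂), a ∈ G₂ :=
    fun hS' _ _ ha hc h' => proj_mem' hF h.sup h.s2.le h.s2.ne_top hmax2 hi2 hpS hS' ha hc h'
  have pjB : ∀ {S' : Subgroup G} (_ : S' ∈ F) {a c : G} (_ : a ∈ S') (_ : c ∈ Cof T S') (_ : a * c ∈ B), a ∈ B := by
    intro S' hS' a c ha hc h'
    rw [← h.inf]
    exact mem_inf.2 ⟨pj1 hS' ha hc (h.s1.le h'), pj2 hS' ha hc (h.s2.le h')⟩
  -- an element of `T ⊓ G₁` outside of `B`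
  obtain ⟨t, ht, htB⟩ : ∃ t ∈ T ⊓ G₁, t ∉ B := by
    by_contra hcon
    push Not at hcon
    apply h.s1.ne
    refine le_antisymm h.s1.le fun x hx => ?_
    obtain ⟨t, ht, b, hb, rfl⟩ := exists_mul h.sup h.s1.le hx
    exact mul_mem (hcon t ht) hb
  have htG : t ∉ G₂ := fun h' => htB (h.inf ▸ mem_inf.2 ⟨(mem_inf.1 ht).2, h'⟩)
  obtain ⟨S₀, hS₀, hS₀'⟩ : ∃ S₀ ∈ F, t ∉ (T ⊓ G₂) ⊔ Cof T S₀ := by
    by_contra hcon
    push Not at hcon
    exact htG (mem_of_proj hF h.sup h.s2.le h.s2.ne_top hmax2 hi2 hpS (mem_inf.1 ht).1 hcon ⟨S, hS⟩)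
  obtain ⟨a, ha, c, hc, rfl⟩ := hF.dec hS₀ (mem_inf.1 ht).1
  have ha1 : a ∈ G₁ := pj1 hS₀ ha hc (mem_inf.1 ht).2
  have ha2 : a ∉ B := fun h' =>
    hS₀' (mul_mem (mem_sup_left (mem_inf.2 ⟨hF.le _ hS₀ ha, h.s2.le h'⟩)) (mem_sup_right hc))
  obtain ⟨R₀, hR₀, hne₀⟩ : ∃ R₀ ∈ F, S₀ ≠ R₀ := by
    by_cases h1 : S₀ = S
    · exact ⟨R, hR, h1 ▸ hne⟩
    · exact ⟨S, hS, h1⟩
  obtain ⟨b, hb, hRb⟩ := hF.conjB h.sup hS₀ hR₀
  have ha'R : b * a * b⁻¹ ∈ R₀ := hRb ▸ ⟨a, ha, rfl⟩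
  have ha'1 : b * a * b⁻¹ ∈ G₁ := mul_mem (mul_mem (h.s1.le hb) ha1) (inv_mem (h.s1.le hb))
  have ha'2 : b * a * b⁻¹ ∉ B := by
    intro h'
    apply ha2
    have h2 := mul_mem (mul_mem (inv_mem hb) h') hb
    have h3 : b⁻¹ * (b * a * b⁻¹) * b = a := by group
    rwa [h3] at h2
  generalize hgen : b * a * b⁻¹ = a' at ha'R ha'1 ha'2
  have hR₀c : R₀ ≤ Cof T S₀ := le_inf (hF.le _ hR₀) (hF.com _ hS₀ _ hR₀ hne₀)
  have hS₀c : S₀ ≤ Cof T R₀ := le_inf (hF.le _ hS₀) (hF.com _ hR₀ _ hS₀ (Ne.symm hne₀))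
  have hxB : a * a' ∉ B := fun h' => ha2 (pjB hS₀ ha (hR₀c ha'R) h')
  obtain ⟨b₁, hb₁, b₂, hb₂, h1⟩ := h.s1.tr a ha1 ha2 (a * a') (mul_mem ha1 ha'1) hxB
  have h2 : (b₁ * a * b₁⁻¹)⁻¹ * (a * a') ∈ B := by
    have h3 : (b₁ * a * b₁⁻¹)⁻¹ * (a * a') = b₁ * b₂ := by rw [h1]; group
    rw [h3]
    exact mul_mem hb₁ hb₂
  have h3 : b₁ * a * b₁⁻¹ ∈ S₀.map (MulAut.conj b₁).toMonoidHom := ⟨a, ha, rfl⟩
  have hS₁ := hF.cls S₀ hS₀ b₁
  generalize S₀.map (MulAut.conj b₁).toMonoidHom = S₁ at h3 hS₁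
  generalize b₁ * a * b₁⁻¹ = a₁ at h2 h3
  by_cases h4 : S₀ = S₁
  · subst h4
    have h5 : a₁⁻¹ * a ∈ S₀ := mul_mem (inv_mem h3) ha
    have h6 := commute_cof h5 (hR₀c ha'R)
    rw [← mul_assoc, h6] at h2
    exact ha'2 (pjB hR₀ ha'R (hS₀c h5) h2)
  · have h5 : a₁ ∈ Cof T S₀ := mem_inf.2 ⟨hF.le _ hS₁ h3, hF.com _ hS₀ _ hS₁ h4 h3⟩
    have h6 := commute_cof ha (inv_mem h5)
    rw [← mul_assoc, ← h6, mul_assoc] at h2
    exact ha2 (pjB hS₀ ha (mul_mem (inv_mem h5) (hR₀c ha'R)) h2)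

end Abs

/-- the factors of a minimal normal subgroup -/
theorem fac_minSet {G : Type*} [Group G] [Finite G] (T : Subgroup G) [hT : T.Normal]
    (hmin : ∀ M : Subgroup G, M.Normal → M ≤ T → M = ⊥ ∨ M = T) (hna : ¬ ∀ x ∈ T, ∀ y ∈ T, Commute x y) :
    Fac T (minSet T) := by
  obtain ⟨-, hind, hsup, hsim, hz, hcj⟩ := nonabelian_structure T hmin hna
  have hcom : ∀ S ∈ minSet T, ∀ R ∈ minSet T, S ≠ R → R ≤ centralizer (S : Set G) := by
    intro S hS R hR hne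
    have hd : Disjoint S R := by
      rw [disjoint_iff]
      rcases hS.2.2.2 (S ⊓ R) inf_le_left (Cfsg.Agent.Lib.MinNormal.le_normalizer_inf hS.2.2.1 hR.2.2.1) with h1 | h1
      · exact h1
      · exfalso
        have h2 : S ≤ R := inf_eq_left.1 h1
        rcases hR.2.2.2 S h2 hS.2.2.1 with h3 | h3
        · exact hS.2.1 h3
        · exact hne h3
    intro r hr
    rw [mem_centralizer_iff]
    intro s hs
    exact commute_of_disjoint (hS.1.trans hR.2.2.1) (hR.1.trans hS.2.2.1) hd hs hr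
  refine ⟨fun S hS => hS.1, fun S hS => hS.2.2.1, fun S hS R hR h => hS.2.2.2 R hR h,
    fun S hS g => map_conj_mem_minSet hS g, hcom, ?_, hcj, hsup⟩
  intro S hS
  refine le_antisymm (sup_le hS.1 inf_le_left) ?_
  conv_lhs => rw [← hsup]
  refine sSup_le fun R hR => ?_
  by_cases h : S = R
  · exact h ▸ le_sup_left
  · exact (le_inf hR.1 (hcom S hS R hR h)).trans le_sup_right

/-- **A minimal normal subgroup is simple and non-abelian.** -/
theorem simple_of_min {G : Type*} [Group G] [Finite G] (P : Cfsg.BNPair G) {p : ℕ} [hp : Fact p.Prime]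
    (h2 : P.rank = 2) (hirr : P.Irreducible) (hcore : P.B.normalCore = ⊥) (hq : ParamPow P p) (T : Subgroup G)
    [hT : T.Normal] (hT1 : T ≠ ⊥) (hmin : ∀ M : Subgroup G, M.Normal → M ≤ T → M = ⊥ ∨ M = T) :
    IsSimpleGroup T ∧ (¬ ∀ x ∈ T, ∀ y ∈ T, Commute x y) ∧ T ⊔ P.B = ⊤ ∧ p ∣ Nat.card T := by
  have hnt : Nontrivial T := (Subgroup.nontrivial_iff_ne_bot T).2 hT1
  obtain ⟨G₁, G₂, h⟩ := geo P h2 hirr hcore hq T
  have hpT := noPprime P h2 hirr hcore hq T hT1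
  have hna : ¬ ∀ x ∈ T, ∀ y ∈ T, Commute x y := by
    intro hab
    obtain ⟨r, hr, hTr, -⟩ := abelian_structure T hT1 hmin hab
    have hr' : Fact r.Prime := ⟨hr⟩
    obtain ⟨n, hn⟩ := (IsPGroup.iff_card (p := r) (G := T)).1 hTr
    have hpr : p = r := by
      rw [hn] at hpT
      exact (Nat.prime_dvd_prime_iff_eq hp.1 hr).1 (hp.1.dvd_of_dvd_pow hpT)
    subst hpr
    have h3 := not_dvd_relIndex h.sup h.idx (le_refl P.B)
    have h4 : P.B.relIndex T ∣ Nat.card T := Subgroup.index_dvd_card _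
    rw [hn] at h4
    obtain ⟨c, -, hc⟩ := (Nat.dvd_prime_pow hp.1).1 h4
    rw [hc] at h3
    have h5 : c = 0 := by
      by_contra hc0
      exact h3 (dvd_pow_self p hc0)
    rw [h5, pow_zero, Subgroup.relIndex_eq_one] at hc
    apply h.s1.ne_top
    rw [eq_top_iff, ← h.sup]
    exact sup_le (hc.trans h.s1.le) h.s1.le
  refine ⟨?_, hna, h.sup, hpT⟩
  obtain ⟨⟨S, hS⟩, hind, hsup, hsim, hz, hcj⟩ := nonabelian_structure T hmin hna
  have hF := fac_minSet T hmin hna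
  have hcS : ∀ R ∈ minSet T, Nat.card R = Nat.card S := by
    intro R hR
    obtain ⟨g, rfl⟩ := hcj S hS R hR
    exact (Nat.card_congr (S.equivMapOfInjective _ (MulAut.conj g).injective).toEquiv).symm
  have hpS : p ∣ Nat.card S := by
    by_contra hpS
    -- `T` would be of order prime to `p`
    obtain ⟨x, hx⟩ := exists_prime_orderOf_dvd_card' p hpT
    have hxT : (x : G) ∈ T := x.2
    have hx1 : orderOf (x : G) = p := by rw [Subgroup.orderOf_coe]; exact hx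
    have key : ∀ R ∈ minSet T, (x : G) ∈ centralizer (R : Set G) := by
      intro R hR
      obtain ⟨a, ha, c, hc, hxac⟩ := hF.dec hR hxT
      have hcomm : Commute a c := commute_cof ha hc
      have h3 : a ^ p * c ^ p = 1 := by
        rw [← hcomm.mul_pow, ← hxac, ← hx1, pow_orderOf_eq_one]
      have h4 : a ^ p = 1 := by
        have h5 : a ^ p = (c ^ p)⁻¹ := eq_inv_of_mul_eq_one_left h3
        have h6 : a ^ p ∈ centralizer (R : Set G) := by
          rw [h5]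
          exact inv_mem (pow_mem (mem_inf.1 hc).2 p)
        refine hz R hR _ (pow_mem ha p) fun t ht => ?_
        exact ((mem_centralizer_iff.1 h6) t ht).symm
      have h5 : a = 1 := by
        have h6 : orderOf (⟨a, ha⟩ : R) ∣ Nat.card R := orderOf_dvd_natCard _
        have h7 : orderOf (⟨a, ha⟩ : R) ∣ p := orderOf_dvd_of_pow_eq_one (Subtype.ext h4)
        rcases (Nat.dvd_prime hp.1).1 h7 with h8 | h8
        · exact congrArg Subtype.val (orderOf_eq_one_iff.1 h8)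
        · exfalso
          rw [h8, hcS R hR] at h6
          exact hpS h6
      rw [hxac, h5, one_mul]
      exact (mem_inf.1 hc).2
    have h3 : T ≤ centralizer {(x : G)} := by
      conv_lhs => rw [← hsup]
      refine sSup_le fun R hR => ?_
      intro r hr
      rw [mem_centralizer_singleton_iff]
      exact (mem_centralizer_iff.1 (key R hR)) r hr
    -- the centre of `T` is trivial
    have h4 : (T ⊓ centralizer (T : Set G)).Normal := by
      constructor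
      intro y hy g
      refine mem_inf.2 ⟨hT.conj_mem y (mem_inf.1 hy).1 g, ?_⟩
      rw [mem_centralizer_iff]
      intro t ht
      have h5 := (mem_centralizer_iff.1 (mem_inf.1 hy).2) (g⁻¹ * t * g) (by
        have := hT.conj_mem t ht g⁻¹
        rwa [inv_inv] at this)
      calc t * (g * y * g⁻¹) = g * (g⁻¹ * t * g * y) * g⁻¹ := by group
        _ = g * (y * (g⁻¹ * t * g)) * g⁻¹ := by rw [h5]
        _ = g * y * g⁻¹ * t := by group
    have h5 : (x : G) ∈ T ⊓ centralizer (T : Set G) := by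
      refine mem_inf.2 ⟨hxT, ?_⟩
      rw [mem_centralizer_iff]
      intro t ht
      exact mem_centralizer_singleton_iff.1 (h3 ht)
    rcases hmin _ h4 inf_le_left with h6 | h6
    · rw [h6, mem_bot] at h5
      rw [h5, orderOf_one] at hx1
      exact hp.1.one_lt.ne hx1
    · apply hna
      intro y hy z hz'
      have h7 : z ∈ centralizer (T : Set G) := (mem_inf.1 (h6 ▸ hz')).2
      exact (mem_centralizer_iff.1 h7) y hy
  have hTS : T = S := by
    conv_lhs => rw [← hsup]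
    refine le_antisymm (sSup_le fun R hR => ?_) (le_sSup hS)
    rw [fac_unique h hF (fun R hR => (hcS R hR).symm ▸ hpS) hS hR]
  rw [hTS]
  exact hsim S hS

/-- **There is a simple normal subgroup.** -/
theorem exists_simple {G : Type*} [Group G] [Finite G] (P : Cfsg.BNPair G) {p : ℕ} [hp : Fact p.Prime]
    (h2 : P.rank = 2) (hirr : P.Irreducible) (hcore : P.B.normalCore = ⊥) (hq : ParamPow P p) :
    ∃ T : Subgroup G, T.Normal ∧ IsSimpleGroup T ∧ (¬ ∀ x ∈ T, ∀ y ∈ T, Commute x y) ∧ T ⊔ P.B = ⊤ ∧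
      p ∣ Nat.card T := by
  have hne : (⊤ : Subgroup G) ≠ ⊥ := by
    intro h
    have hs : P.S.Nonempty := by
      rw [Set.nonempty_iff_ne_empty]
      intro h3
      have h4 : Nat.card P.S = 2 := h2
      rw [h3] at h4
      simp at h4
    obtain ⟨s, hs⟩ := hs
    have h5 : s ∈ (⊥ : Subgroup G) := h ▸ mem_top s
    rw [mem_bot] at h5
    exact Cfsg.Agent.Schreier.BNSch.not_mem_B P hs (h5 ▸ one_mem _)
  have hfin : {T : Subgroup G | T ≠ ⊥ ∧ T.Normal}.Finite := Set.toFinite _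
  obtain ⟨T, ⟨hT1, hT⟩, hTmin⟩ := hfin.exists_minimal ⟨⊤, hne, inferInstance⟩
  have hmin : ∀ M : Subgroup G, M.Normal → M ≤ T → M = ⊥ ∨ M = T := by
    intro M hM hMT
    by_cases h : M = ⊥
    · exact Or.inl h
    · exact Or.inr (le_antisymm hMT (hTmin ⟨h, hM⟩ hMT))
  obtain ⟨h3, h4, h5, h6⟩ := simple_of_min P h2 hirr hcore hq T hT1 hmin
  exact ⟨T, hT, h3, h4, h5, h6⟩

end Cfsg.Agent.H283.RkTwo
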