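import Cfsg.Agent.H283.RkTwo.OfBN
import Cfsg.Agent.S0205
import Cfsg.Agent.H873.Tits.Stmts

/-!
# S3414: a group with a core-free irreducible (B,N)-pair of rank two has no abelian normal subgroup

* `eq_bot_of_comm` : abelian normal subgroups are trivial;
* `noOdd` : `NoOdd G`;
* `centralizer_eq_bot` : the centralizer of a chamber transitive normal subgroup of order divisible by `p` is trivial
  (the parameters are powers of `p`).
-/

set_option autoImplicit false

namespace Cfsg.Agent.H283.RkTwo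

open Subgroup Cfsg Cfsg.Agent.LieExceptional.BNPairCore Cfsg.Agent.Schreier.BNSch

variable {G : Type*} [Group G] (P : Cfsg.BNPair G)

theorem parabolic_ne_top (h2 : P.rank = 2) {s : G} (hs : s ∈ P.S) : P.parabolic {s} ≠ ⊤ := by
  intro h
  have h3 : P.parabolic {s} = P.parabolic P.S := by rw [h, parabolic_S_eq_top]
  have h4 : P.S ⊆ {s} := (parabolic_le_iff P le_rfl (Set.singleton_subset_iff.2 hs)).1 h3.ge
  have h5 : P.S = {s} := Set.Subset.antisymm h4 (Set.singleton_subset_iff.2 hs)
  have h6 : Nat.card P.S = 1 := by rw [h5]; simp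
  have h7 : Nat.card P.S = 2 := h2
  omega

theorem exists_mem_S (h2 : P.rank = 2) : ∃ s, s ∈ P.S := by
  by_contra h
  push Not at h
  have h3 : P.S = ∅ := Set.eq_empty_iff_forall_notMem.2 h
  have h7 : Nat.card P.S = 2 := h2
  rw [h3] at h7
  simp at h7

/-- normal subgroups are trivial or chamber transitive -/
theorem dich' (hirr : P.Irreducible) (hcore : P.B.normalCore = ⊥) (H : Subgroup G) [H.Normal] :
    H = ⊥ ∨ H ⊔ P.B = ⊤ := by
  rcases dich P hirr H with h | h
  · left
    rw [← le_bot_iff, ← hcore]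
    exact Subgroup.normal_le_normalCore.2 h
  · exact Or.inr h

/-- **Abelian normal subgroups are trivial.** -/
theorem eq_bot_of_comm (h2 : P.rank = 2) (hirr : P.Irreducible) (hcore : P.B.normalCore = ⊥) (M : Subgroup G)
    [hM : M.Normal] (hc : ∀ x ∈ M, ∀ y ∈ M, x * y = y * x) : M = ⊥ := by
  rcases dich' P hirr hcore M with h | hsup
  · exact h
  exfalso
  obtain ⟨s, hs⟩ := exists_mem_S P h2
  set X := P.parabolic {s} with hX
  have hBX : P.B ≤ X := B_le_parabolic P _
  set R := M ⊓ X with hR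
  have hRn : R.Normal := by
    constructor
    intro r hr g
    have hg : g ∈ M ⊔ P.B := by rw [hsup]; trivial
    rw [mem_sup_of_normal_left] at hg
    obtain ⟨m, hm, b, hb, rfl⟩ := hg
    have h3 : b * r * b⁻¹ ∈ R :=
      mem_inf.2 ⟨hM.conj_mem _ (mem_inf.1 hr).1 _, mul_mem (mul_mem (hBX hb) (mem_inf.1 hr).2) (inv_mem (hBX hb))⟩
    have h4 : m * b * r * (m * b)⁻¹ = b * r * b⁻¹ := by
      have h5 := hc m hm _ (mem_inf.1 h3).1
      calc m * b * r * (m * b)⁻¹ = m * (b * r * b⁻¹) * m⁻¹ := by group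
        _ = b * r * b⁻¹ := by rw [h5]; group
    rw [h4]
    exact h3
  rcases dich' P hirr hcore R with h3 | h3
  · have h4 : X ≤ P.B := by
      intro x hx
      obtain ⟨t, ht, b, hb, rfl⟩ := exists_mul hsup hBX hx
      have h5 : t ∈ R := ht
      rw [h3, mem_bot] at h5
      rw [h5, one_mul]
      exact hb
    exact (B_lt_parabolic P hs).ne (le_antisymm hBX h4)
  · apply parabolic_ne_top P h2 hs
    rw [eq_top_iff, ← h3]
    exact sup_le inf_le_right hBX

/-- solvable normal subgroups are trivial -/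
theorem eq_bot_of_solvable [Finite G] (h2 : P.rank = 2) (hirr : P.Irreducible) (hcore : P.B.normalCore = ⊥) (N : Subgroup G)
    [hN : N.Normal] (hs : Group.IsSolvable N) : N = ⊥ := by
  by_contra hne
  have hfin : {T : Subgroup G | (T ≠ ⊥ ∧ T.Normal) ∧ T ≤ N}.Finite := Set.toFinite _
  obtain ⟨T, ⟨⟨hT1, hT⟩, hTN⟩, hTmin⟩ := hfin.exists_minimal ⟨N, ⟨hne, hN⟩, le_rfl⟩
  have hTs : Group.IsSolvable T := Group.isSolvable_of_isSolvable_injective (f := Subgroup.inclusion hTN)
    (Subgroup.inclusion_injective hTN)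
  have hcom : ⁅T, T⁆ < T := by
    refine lt_of_le_of_ne (Subgroup.commutator_le_left T T) ?_
    intro h
    have hnt : Nontrivial T := (Subgroup.nontrivial_iff_ne_bot T).2 hT1
    have h3 := Group.IsSolvable.commutator_lt_top_of_nontrivial T
    apply h3.ne
    rw [eq_top_iff]
    intro x _
    have h4 : (x : G) ∈ ⁅T, T⁆ := by rw [h]; exact x.2
    have h5 : (commutator T).map T.subtype = ⁅T, T⁆ := by
      rw [_root_.commutator_def, Subgroup.map_commutator, ← MonoidHom.range_eq_map, Subgroup.range_subtype]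
    rw [← h5] at h4
    obtain ⟨y, hy, hyx⟩ := h4
    have h6 : y = x := Subtype.ext hyx
    rwa [h6] at hy
  have h3 : ⁅T, T⁆ = ⊥ := by
    by_contra h4
    exact absurd (hTmin (⟨⟨h4, inferInstance⟩, hcom.le.trans hTN⟩ : _) hcom.le) hcom.not_ge
  refine hT1 (eq_bot_of_comm P h2 hirr hcore T ?_)
  intro x hx y hy
  have h4 := Subgroup.commutator_mem_commutator hx hy
  rw [h3, mem_bot] at h4
  exact commutatorElement_eq_one_iff_mul_comm.1 h4

/-- **`NoOdd G`.** -/
theorem noOdd [Finite G] (h2 : P.rank = 2) (hirr : P.Irreducible) (hcore : P.B.normalCore = ⊥) :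
    Cfsg.Agent.H873.Tits.NoOdd G := by
  refine ⟨?_, ?_⟩
  · intro N hN h
    refine eq_bot_of_solvable P h2 hirr hcore N (Cfsg.Agent.S0205.result ?_)
    rw [← Nat.not_even_iff_odd]
    exact fun h3 => h h3.two_dvd
  · exact eq_bot_of_comm P h2 hirr hcore (Subgroup.center G) (fun x hx y _ => (mem_center_iff.1 hx y).symm)

theorem card_of_inf_eq_bot [Finite G] {T B : Subgroup G} [hT : T.Normal] (hsup : T ⊔ B = ⊤) (h : T ⊓ B = ⊥) :
    Nat.card T = B.index := by
  have h1 : T.IsComplement' B := by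
    apply Subgroup.isComplement'_of_disjoint_and_mul_eq_univ
    · rw [disjoint_iff]; exact h
    · rw [← Subgroup.normal_mul, hsup]; rfl
  exact h1.index_eq_card.symm

/-- **The centralizer of `T` is trivial.** -/
theorem centralizer_eq_bot [Finite G] {p : ℕ} [hp : Fact p.Prime] (hirr : P.Irreducible) (hcore : P.B.normalCore = ⊥)
    (hq : ParamPow P p) (T : Subgroup G) [hT : T.Normal] (hsup : T ⊔ P.B = ⊤) (hpT : p ∣ Nat.card T) :
    Subgroup.centralizer (T : Set G) = ⊥ := by
  rcases dich' P hirr hcore (Subgroup.centralizer (T : Set G)) with h | h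
  · exact h
  exfalso
  have h3 : T ⊓ P.B = ⊥ := by
    rw [← le_bot_iff, ← hcore]
    intro t ht g
    have hg : g ∈ Subgroup.centralizer (T : Set G) ⊔ P.B := by rw [h]; trivial
    rw [mem_sup_of_normal_left] at hg
    obtain ⟨c, hc, b, hb, rfl⟩ := hg
    have h4 : b * t * b⁻¹ ∈ T := hT.conj_mem _ (mem_inf.1 ht).1 _
    have h5 := mem_centralizer_iff.1 hc _ h4
    have h6 : c * b * t * (c * b)⁻¹ = b * t * b⁻¹ := by
      calc c * b * t * (c * b)⁻¹ = c * (b * t * b⁻¹) * c⁻¹ := by group
        _ = b * t * b⁻¹ := by rw [← h5]; group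
    show c * b * t * (c * b)⁻¹ ∈ P.B
    rw [h6]
    exact mul_mem (mul_mem hb (mem_inf.1 ht).2) (inv_mem hb)
  apply not_dvd_index P hq
  rw [← card_of_inf_eq_bot hsup h3]
  exact hpT

end Cfsg.Agent.H283.RkTwo
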