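import Cfsg.Agent.H283.RkTwo.Exc
import Cfsg.Agent.H283.RkTwo.NoOdd
import Cfsg.Agent.H283.RkTwo.Main
import Cfsg.Agent.H283.RkTwo.MinSimple
import Cfsg.Agent.H873.Tits.Bridge
import Cfsg.Agent.H873.Tits.End

/-!
# S3414: the end step on the side of the (B,N)-pair

`endStep` : all parameters are powers of `p`: then the conclusion of S3414 holds.
-/

set_option autoImplicit false

namespace Cfsg.Agent.H283.RkTwo

open Subgroup Cfsg Cfsg.Agent.H873.Tits

universe u v

section Abs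

variable {G : Type u} [Group G]

theorem index_subgroupOf_eq [Finite G] {T X : Subgroup G} [T.Normal] (h : T ⊔ X = ⊤) : (X.subgroupOf T).index = X.index := by
  have e1 : T.relIndex (X ⊔ T) = T.relIndex X := Subgroup.relIndex_sup_right ..
  have e2 : (T ⊓ X).relIndex T * T.relIndex (X ⊔ T) = (T ⊓ X).relIndex (X ⊔ T) :=
    Subgroup.relIndex_mul_relIndex _ _ _ inf_le_left le_sup_right
  have e3 : (T ⊓ X).relIndex X * X.relIndex (X ⊔ T) = (T ⊓ X).relIndex (X ⊔ T) :=
    Subgroup.relIndex_mul_relIndex _ _ _ inf_le_right le_sup_left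
  rw [Subgroup.inf_relIndex_left, e1] at e2
  rw [Subgroup.inf_relIndex_right, ← e2, mul_comm] at e3
  have h0 : 0 < T.relIndex X := Nat.pos_of_ne_zero Subgroup.index_ne_zero_of_finite
  have h4 : X.relIndex (X ⊔ T) = X.relIndex T := Nat.eq_of_mul_eq_mul_right h0 e3
  rw [sup_comm, h, Subgroup.relIndex_top_right] at h4
  exact h4.symm

theorem sup_conj {B T B' : Subgroup G} [hT : T.Normal] (h : T ⊔ B = ⊤) {g : G} (hB' : ∀ b ∈ B, g * b * g⁻¹ ∈ B') : B' ⊔ T = ⊤ := by
  rw [eq_top_iff]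
  intro x _
  have h1 : g⁻¹ * x * g ∈ T ⊔ B := by rw [h]; trivial
  rw [mem_sup_of_normal_left] at h1
  obtain ⟨t, ht, b, hb, hx⟩ := h1
  have h2 : x = (g * t * g⁻¹) * (g * b * g⁻¹) := by
    have : x = g * (g⁻¹ * x * g) * g⁻¹ := by group
    rw [this, ← hx]; group
  rw [h2]
  exact mul_mem (mem_sup_right (hT.conj_mem t ht g)) (mem_sup_left (hB' b hb))

end Abs

section Pol

variable {G : Type u} [Group G] {V : Type v} [MulAction G V] (P : Pol G V)

theorem edge_trans' {x y x' y' : V} (h : P.adj x y) (h' : P.adj x' y') (ht : P.tp x = P.tp x') :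
    ∃ g : G, g • x = x' ∧ g • y = y' := by
  obtain ⟨g, hg⟩ := P.trans (k := 1) (p := fun i => if i = 0 then x else y) (p' := fun i => if i = 0 then x' else y')
    (by have := P.hn; omega)
    ⟨fun i hi => by
      have : i = 0 := by omega
      subst this
      simpa using h, fun i hi => by omega⟩
    ⟨fun i hi => by
      have : i = 0 := by omega
      subst this
      simpa using h', fun i hi => by omega⟩ (by simpa using ht)
  have h0 := hg 0 (by omega)
  have h1 := hg 1 le_rfl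
  simp only [if_true, one_ne_zero, if_false] at h0 h1
  exact ⟨g, h0, h1⟩

/-- `T` is transitive on the edges -/
theorem sup_edge {T : Subgroup G} [hT : T.Normal] {x₀ y₀ : V} (h0 : P.adj x₀ y₀) (hsup : T ⊔ (P.S x₀ ⊓ P.S y₀) = ⊤)
    {x y : V} (h : P.adj x y) : (P.S x ⊓ P.S y) ⊔ T = ⊤ := by
  have hkey : ∀ {x y : V}, P.adj x y → P.tp x₀ = P.tp x → (P.S x ⊓ P.S y) ⊔ T = ⊤ := by
    intro x y hxy ht
    obtain ⟨g, hgx, hgy⟩ := edge_trans' P h0 hxy ht
    refine sup_conj hsup (g := g) ?_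
    intro b hb
    obtain ⟨hb1, hb2⟩ := mem_inf.1 hb
    have e1 : b • x₀ = x₀ := hb1
    have e2 : b • y₀ = y₀ := hb2
    refine mem_inf.2 ⟨?_, ?_⟩
    · show (g * b * g⁻¹) • x = x
      rw [← hgx, smul_smul, inv_mul_cancel_right, mul_smul, e1]
    · show (g * b * g⁻¹) • y = y
      rw [← hgy, smul_smul, inv_mul_cancel_right, mul_smul, e2]
  by_cases ht : P.tp x₀ = P.tp x
  · exact hkey h ht
  · have h1 := P.tp_adj h
    rw [inf_comm]
    refine hkey (P.symm h) ?_
    rw [h1]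
    cases h2 : P.tp x₀ <;> cases h3 : P.tp x <;> simp_all

variable [Finite G] [Finite V] {P}

/-- `idx` is a power of `p` -/
theorem idx_pow (F : Facts P) {p : ℕ} (hp : Powers P p) {v v' : V} (h : P.Opp v v') : ∃ e, P.idx v v' = p ^ e := by
  have h1 := F.count_opp h
  obtain ⟨k, hk⟩ := hp.2 (P.tp v)
  obtain ⟨l, hl⟩ := hp.2 (!P.tp v)
  have h2 : Nat.card ↥(P.K v ⊓ P.S v') ∣ Nat.card ↥(P.K v) := Subgroup.card_dvd_of_le inf_le_left
  obtain ⟨c, hc⟩ := h2
  have hpos : 0 < Nat.card ↥(P.K v ⊓ P.S v') := Nat.card_pos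
  rw [hc, hk, hl] at h1
  have h3 : P.idx v v' * c = (p ^ k) ^ (P.n / 2 - 1) * (p ^ l) ^ (P.n / 2) := by
    apply Nat.eq_of_mul_eq_mul_right hpos
    rw [← h1]; ring
  rw [← pow_mul, ← pow_mul, ← pow_add] at h3
  obtain ⟨e, -, he⟩ := (Nat.dvd_prime_pow hp.1).1 (Dvd.intro c h3)
  exact ⟨e, he⟩

/-- the order of the local two point stabilizer -/
theorem T2_dvd (hLoc : StLoc.{v}) (F : Facts P) {p : ℕ} (hA : CaseA P p) (hp : Powers P p) {x y z : V} (hxy : P.adj x y)
    (hxz : P.adj x z) (hyz : y ≠ z) {k : ℕ} (hk : P.q (P.tp x) = p ^ k) : P.T2 x y z ∣ hm p k := by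
  obtain ⟨x', hx'⟩ := F.exists_opp x
  obtain ⟨Q, hQ⟩ := lq F hA hxy hxz hyz
  rw [T2_eq hxy hxz]
  apply dvd_hm
  rcases hLoc (P.L x) (P.L' x x') _ p k _ _ Q hQ (twoTr_L' F hx') L'_le_L hk (idx_pow F hp hx') with ⟨-, -, h⟩ | h
  · exact Or.inl h
  · exact Or.inr h

end Pol

/-- **The end step.** -/
theorem endStep (hEnd : StEnd.{u, v}) (hLoc : StLoc.{v}) {G : Type u} [Group G] [Finite G] (B : BNPair G) (h2 : B.rank = 2)
    (hirr : B.Irreducible) (hcore : B.B.normalCore = ⊥) {V : Type v} [MulAction G V] [Finite V] (P : Pol G V)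
    (hq : ∀ s ∈ B.S, ∃ b, (B.B ⊓ B.B.map (MulAut.conj s).toMonoidHom).relIndex B.B = P.q b)
    (hxy : ∃ x y, P.adj x y ∧ P.S x ⊓ P.S y = B.B) (F : Facts P) (FE : FactsE P) (N : Num P) {p : ℕ} (hA : CaseA P p)
    (hp : Powers P p) : ∃ K : Subgroup G, K.Normal ∧ Concl K := by
  have hfact : Fact p.Prime := ⟨hp.1⟩
  have hpar : ParamPow B p := by
    intro s hs
    obtain ⟨b, hb⟩ := hq s hs
    obtain ⟨k, hk⟩ := hp.2 b
    exact ⟨k, hb.trans hk⟩
  obtain ⟨T, hT, hTs, hTn, hsup, hpT⟩ := exists_simple B h2 hirr hcore hpar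
  have hcom : ¬ IsMulCommutative T := by
    intro h
    apply hTn
    intro x hx y hy
    have := h.is_comm.comm (⟨x, hx⟩ : T) ⟨y, hy⟩
    exact congrArg Subtype.val this
  have hcen := centralizer_eq_bot B hirr hcore hpar T hsup hpT
  obtain ⟨x₀, y₀, hadj, hB⟩ := hxy
  have hsup0 : T ⊔ (P.S x₀ ⊓ P.S y₀) = ⊤ := by rw [hB]; exact hsup
  have hlt := hEnd P F FE N hA hp T hcom hcen (fun {x y} h => sup_edge P hadj hsup0 h)
  refine ⟨T, hT, ?_⟩
  suffices h : IsLieTypeChar p T ∨ Concl T by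
    rcases h with h | h
    · exact main B h2 hirr hcore hp.1 hpar T h
    · exact h
  -- the vertices of type `true`, `false`
  obtain ⟨v₁, v₂, ht1, ht2, hB12, hadj12⟩ : ∃ v₁ v₂ : V, P.tp v₁ = true ∧ P.tp v₂ = false ∧ P.S v₁ ⊓ P.S v₂ = B.B ∧ P.adj v₁ v₂ := by
    have h1 := P.tp_adj hadj
    cases h3 : P.tp x₀
    · rw [h3] at h1
      exact ⟨y₀, x₀, h1, h3, by rw [inf_comm]; exact hB, P.symm hadj⟩
    · rw [h3] at h1
      exact ⟨x₀, y₀, h3, h1, hB, hadj⟩
  obtain ⟨a, ha⟩ := hp.2 true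
  obtain ⟨b, hb⟩ := hp.2 false
  have ha1 : 1 ≤ a := by
    rcases Nat.eq_zero_or_pos a with h | h
    · have := P.two_le true
      rw [ha, h, pow_zero] at this
      omega
    · exact h
  have hb1 : 1 ≤ b := by
    rcases Nat.eq_zero_or_pos b with h | h
    · have := P.two_le false
      rw [hb, h, pow_zero] at this
      omega
    · exact h
  have hBi : B.B.index = ch P.n (p ^ a) (p ^ b) := by
    rw [← hB12, FE.index_B hadj12, ha, hb]
  have hT1 : T ⊔ P.S v₁ = ⊤ := by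
    rw [eq_top_iff, ← hsup]
    exact sup_le_sup le_rfl (hB12 ▸ inf_le_left)
  have hT2 : T ⊔ P.S v₂ = ⊤ := by
    rw [eq_top_iff, ← hsup]
    exact sup_le_sup le_rfl (hB12 ▸ inf_le_right)
  refine exc hcom hp.1 hlt P.hn ha1 hb1 (B.B.subgroupOf T) ((P.S v₁).subgroupOf T) ((P.S v₂).subgroupOf T) ?_ ?_ ?_ ?_
  · rw [index_subgroupOf_eq hsup, hBi]
  · rw [index_subgroupOf_eq hT1]
    have h := FE.index_S v₁
    rw [ht1, ha, hb] at h
    exact h
  · rw [index_subgroupOf_eq hT2]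
    have h := FE.index_S v₂
    rw [ht2, ha, hb] at h
    exact h
  · -- the order of `B`
    have h1 : Nat.card (B.B.subgroupOf T) ∣ Nat.card B.B := by
      have e1 : Nat.card (B.B.subgroupOf T) = Nat.card (B.B ⊓ T : Subgroup G) := by
        rw [← Subgroup.subgroupOf_map_subtype]
        exact (Nat.card_congr (Subgroup.equivMapOfInjective _ _ T.subtype_injective).toEquiv)
      rw [e1]
      exact Subgroup.card_dvd_of_le inf_le_left
    refine h1.trans ?_
    obtain ⟨π, hπ, -⟩ := F.extend (k := 0) (p := fun _ => v₁) (Nat.zero_le _) ⟨fun i hi => by omega, fun i hi => by omega⟩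
    have hcG := FE.card_G hπ
    have hcG2 : Nat.card B.B * ch P.n (p ^ a) (p ^ b) = Nat.card G := by rw [← hBi]; exact Subgroup.card_mul_index _
    rw [ha, hb] at hcG
    have hchpos : 0 < ch P.n (p ^ a) (p ^ b) := by
      rw [← hBi]
      exact Nat.pos_of_ne_zero Subgroup.index_ne_zero_of_finite
    have hcB : Nat.card B.B = (p ^ a * p ^ b) ^ (P.n / 2) * Nat.card ↥(P.H π) := by
      apply Nat.eq_of_mul_eq_mul_right hchpos
      rw [hcG2, hcG]; ring
    rw [hcB]
    refine Nat.mul_dvd_mul_left _ ?_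
    refine (FE.card_H hπ).trans ?_
    have hn4 : 4 ≤ P.n := by have := P.hn; omega
    have a01 := hπ.1 0 (by omega)
    have a12 := hπ.1 1 (by omega)
    have a23 := hπ.1 2 (by omega)
    have n02 := hπ.2 0 (by omega)
    have n13 := hπ.2 1 (by omega)
    have t12 := P.tp_adj a12
    cases h3 : P.tp (π 1)
    · rw [h3] at t12
      rw [mul_comm]
      refine Nat.mul_dvd_mul ?_ ?_
      · exact T2_dvd hLoc F hA hp (P.symm a12) a23 (Ne.symm n13) (by rw [t12]; exact ha)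
      · exact T2_dvd hLoc F hA hp (P.symm a01) a12 (Ne.symm n02) (by rw [h3]; exact hb)
    · rw [h3] at t12
      refine Nat.mul_dvd_mul ?_ ?_
      · exact T2_dvd hLoc F hA hp (P.symm a01) a12 (Ne.symm n02) (by rw [h3]; exact ha)
      · exact T2_dvd hLoc F hA hp (P.symm a12) a23 (Ne.symm n13) (by rw [t12]; exact hb)

end Cfsg.Agent.H283.RkTwo
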