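import Mathlib
import Cfsg.Agent.S0713
import Cfsg.Agent.H393.AltNoThree
import Cfsg.Agent.H748.JordanTwoPower
import Cfsg.Agent.H419.Spor.M12

/-!
# S3414: two index lemmas

* `no_A9` : the alternating group of degree `9` has no subgroup of index `112`;
* `no_M12` : `M₁₂` has no subgroup of index `297`.
-/

set_option autoImplicit false

namespace Cfsg.Agent.H283.RkTwo

open MulAction

theorem dvd_orbit {G Ω : Type*} [Group G] [Finite G] [MulAction G Ω] [IsPretransitive G Ω] (X : Subgroup G) (x : Ω) :
    Nat.card Ω ∣ X.index * (orbit X x).ncard := by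
  have h1 : (stabilizer G x).index = Nat.card Ω := index_stabilizer_of_transitive G x
  have h2 : (stabilizer X x).index = (orbit X x).ncard := index_stabilizer X x
  have h3 : stabilizer X x = (stabilizer G x).subgroupOf X := by
    ext g
    rw [Subgroup.mem_subgroupOf, mem_stabilizer_iff, mem_stabilizer_iff]
    rfl
  have h4 : (stabilizer X x).index = (stabilizer G x ⊓ X).relIndex X := by
    rw [h3, Subgroup.inf_relIndex_right]
    rfl
  have h5 : (stabilizer G x ⊓ X).relIndex X * X.index = (stabilizer G x ⊓ X).index :=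
    Subgroup.relIndex_mul_index inf_le_right
  rw [← h1, ← h2, h4, mul_comm, h5]
  exact Subgroup.index_dvd_of_le inf_le_left

section A9

/-- **`A₉` has no subgroup of index `112`.** -/
theorem no_A9 {X : Subgroup (alternatingGroup (Fin 9))} (hX : X.index = 112) : False := by
  obtain ⟨g, hg, hgc, hg5⟩ := H393.Alt.exists_cycle (X := X) (q := 5) (by norm_num) (by norm_num) (by simp) (by rw [hX]; norm_num)
  obtain ⟨c, hc, hcc, hc3⟩ := H393.Alt.exists_cycle (X := X) (q := 3) (by norm_num) (by norm_num) (by simp) (by rw [hX]; norm_num)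
  have htr : IsPretransitive (H393.Alt.up X) (Fin 9) := by
    have ht : IsPretransitive (alternatingGroup (Fin 9)) (Fin 9) :=
      alternatingGroup.isPretransitive_of_three_le_card (Fin 9) (by simp)
    have h1 : ∀ x : Fin 9, (orbit X x).ncard = 9 := by
      intro x
      have h2 := dvd_orbit X x
      rw [Nat.card_eq_fintype_card, Fintype.card_fin, hX] at h2
      have h3 : 9 ∣ (orbit X x).ncard := (Nat.Coprime.dvd_mul_left (by norm_num)).1 h2
      have h4 : (orbit X x).ncard ≤ 9 := by
        have := Set.ncard_le_card (orbit X x)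
        rwa [Nat.card_eq_fintype_card, Fintype.card_fin] at this
      have h5 : 0 < (orbit X x).ncard := (Set.ncard_pos (Set.toFinite _)).2 ⟨x, mem_orbit_self x⟩
      have := Nat.le_of_dvd h5 h3
      omega
    refine ⟨fun x y => ?_⟩
    have h2 : orbit X x = Set.univ := by
      apply Set.eq_of_subset_of_ncard_le (Set.subset_univ _) _ (Set.toFinite _)
      rw [h1 x, Set.ncard_univ, Nat.card_eq_fintype_card, Fintype.card_fin]
    have h3 : y ∈ orbit X x := by rw [h2]; trivial
    obtain ⟨h, hh⟩ := h3
    exact ⟨⟨(h : alternatingGroup (Fin 9)), H393.Alt.mem_up.2 h.2⟩, hh⟩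
  have h9 := H748.JordanTwoPower.alt_le hg hgc (by rw [hgc.orderOf, hg5]; norm_num)
    (by rw [hgc.orderOf, hg5]; simp) (card_support_eq_three_iff.1 hc3) hc
  refine H393.Alt.ne_top_of ?_ h9
  rintro rfl
  rw [Subgroup.index_top] at hX
  omega

end A9

section M12

variable {G Ω : Type*} [Group G] [Finite G] [MulAction G Ω]

theorem fix_of_small {X : Subgroup G} {g : G} (hg : g ∈ X) (ho : orderOf g = 5) {y : Ω} [Finite Ω] (h : (orbit X y).ncard < 5) :
    g • y = y := by
  have h1 : Nat.card (orbit (Subgroup.zpowers g) y) * Nat.card (stabilizer (Subgroup.zpowers g) y) = 5 := by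
    have h2 := Nat.card_congr (orbitProdStabilizerEquivGroup (Subgroup.zpowers g) y)
    rw [Nat.card_prod, Nat.card_zpowers, ho] at h2
    exact h2
  have h2 : Nat.card (orbit (Subgroup.zpowers g) y) ≤ (orbit X y).ncard := by
    rw [Nat.card_coe_set_eq]
    apply Set.ncard_le_ncard _ (Set.toFinite _)
    rintro _ ⟨⟨k, hk⟩, rfl⟩
    exact ⟨⟨k, (Subgroup.zpowers_le.2 hg) hk⟩, rfl⟩
  have h3 : Nat.card (orbit (Subgroup.zpowers g) y) = 1 := by
    have h4 : Nat.card (orbit (Subgroup.zpowers g) y) ∣ 5 := ⟨_, h1.symm⟩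
    rcases (Nat.dvd_prime (by norm_num)).1 h4 with h5 | h5
    · exact h5
    · omega
  rw [Nat.card_eq_one_iff_unique] at h3
  obtain ⟨h3, -⟩ := h3
  have h4 := h3.elim ⟨g • y, ⟨⟨g, Subgroup.mem_zpowers g⟩, rfl⟩⟩ ⟨y, mem_orbit_self y⟩
  exact congrArg Subtype.val h4

theorem kill12 [IsSimpleGroup G] [Fintype Ω] [DecidableEq Ω] (hΩ : Fintype.card Ω = 12) (h2 : IsMultiplyPretransitive G Ω 2)
    (hG : Nat.card G = 95040) (X : Subgroup G) (hX : X.index = 297) : False := by
  have hprim : IsPreprimitive G Ω := isPreprimitive_of_is_two_pretransitive h2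
  have htr : IsPretransitive G Ω := hprim.toIsPretransitive
  have hinj : Function.Injective (toPermHom G Ω) := by
    rw [← MonoidHom.ker_eq_bot_iff]
    rcases IsSimpleGroup.eq_bot_or_eq_top_of_normal (toPermHom G Ω).ker inferInstance with h | h
    · exact h
    · exfalso
      obtain ⟨x, y, hxy⟩ : ∃ x y : Ω, x ≠ y := by
        have : Nontrivial Ω := Fintype.one_lt_card_iff_nontrivial.1 (by omega)
        exact exists_pair_ne Ω
      obtain ⟨g, hg⟩ := htr.exists_smul_eq x y
      have h3 : g ∈ (toPermHom G Ω).ker := by rw [h]; trivial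
      rw [MonoidHom.mem_ker] at h3
      have h4 : (toPermHom G Ω g) x = x := by rw [h3]; rfl
      exact hxy (h4.symm.trans hg)
  have hXc : Nat.card X = 320 := by
    have h3 := Subgroup.card_mul_index X
    rw [hX, hG] at h3
    omega
  have hfive : Fact (Nat.Prime 5) := ⟨by norm_num⟩
  obtain ⟨⟨g, hgX⟩, hgo⟩ := exists_prime_orderOf_dvd_card' (G := X) 5 (by rw [hXc]; norm_num)
  rw [Subgroup.orderOf_mk] at hgo
  have horb : ∀ x : Ω, (orbit X x).ncard = 4 ∨ (orbit X x).ncard = 8 := by
    intro x
    have h3 := dvd_orbit X x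
    rw [Nat.card_eq_fintype_card, hΩ, hX] at h3
    have h4 : (orbit X x).ncard ≤ 12 := by
      have := Set.ncard_le_card (orbit X x)
      rwa [Nat.card_eq_fintype_card, hΩ] at this
    have h5 : 0 < (orbit X x).ncard := (Set.ncard_pos (Set.toFinite _)).2 ⟨x, mem_orbit_self x⟩
    have h6 : (orbit X x).ncard ∣ 320 := by
      rw [← hXc, ← index_stabilizer]
      exact Subgroup.index_dvd_card _
    generalize (orbit X x).ncard = m at h3 h4 h5 h6
    interval_cases m <;> omega
  set π := toPermHom G Ω g with hπ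
  have hπo : orderOf π = 5 := by rw [hπ, orderOf_injective _ hinj, hgo]
  obtain ⟨n, hn⟩ := Equiv.Perm.cycleType_prime_order (σ := π) (by rw [hπo]; norm_num)
  have hsup : π.support.card = 5 * (n + 1) := by
    rw [← Equiv.Perm.sum_cycleType, hn, hπo, Multiset.sum_replicate, smul_eq_mul, mul_comm]
  obtain ⟨x, hx⟩ : π.support.Nonempty := by
    rw [← Finset.card_pos, hsup]; omega
  have hxg : g • x ≠ x := Equiv.Perm.mem_support.1 hx
  have hx8 : (orbit X x).ncard = 8 := by
    rcases horb x with h3 | h3
    · exact absurd (fix_of_small hgX hgo (by omega)) hxg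
    · exact h3
  have hsub : (π.support : Set Ω) ⊆ orbit X x := by
    intro y hy
    by_contra hyx
    have hyg : g • y ≠ y := Equiv.Perm.mem_support.1 hy
    have hy8 : (orbit X y).ncard = 8 := by
      rcases horb y with h3 | h3
      · exact absurd (fix_of_small hgX hgo (by omega)) hyg
      · exact h3
    have hdis : Disjoint (orbit X y) (orbit X x) := by
      rcases MulAction.orbit.eq_or_disjoint (G := X) y x with h3 | h3
      · exact absurd (h3 ▸ mem_orbit_self y) hyx
      · exact h3
    have h4 := Set.ncard_union_eq hdis (Set.toFinite _) (Set.toFinite _)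
    have h5 : (orbit X y ∪ orbit X x).ncard ≤ 12 := by
      have := Set.ncard_le_card (orbit X y ∪ orbit X x)
      rwa [Nat.card_eq_fintype_card, hΩ] at this
    omega
  have hle : π.support.card ≤ 8 := by
    rw [← hx8, ← Set.ncard_coe_finset]
    exact Set.ncard_le_ncard hsub (Set.toFinite _)
  have hn0 : n = 0 := by omega
  subst hn0
  have hcyc : π.IsCycle := by
    rw [← Equiv.Perm.card_cycleType_eq_one, hn]
    simp
  have hprim' : IsPreprimitive (toPermHom G Ω).range Ω := by
    let f : Ω →ₑ[(toPermHom G Ω).rangeRestrict] Ω :=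
      { toFun := id
        map_smul' := fun m x => rfl }
    exact IsPreprimitive.of_surjective (f := f) Function.surjective_id
  have hA := Cfsg.Agent.S0713.result (toPermHom G Ω).range hprim' (p := 5) (by norm_num) (by omega) (by omega) hcyc
    (by rw [hsup]) ⟨g, rfl⟩
  have h7 : Nat.card (alternatingGroup Ω) ≤ Nat.card (toPermHom G Ω).range := Nat.card_le_card_of_injective _ (Subgroup.inclusion_injective hA)
  have h8 : Nat.card (toPermHom G Ω).range = 95040 := by
    rw [← hG]
    exact (Nat.card_congr (MonoidHom.ofInjective hinj).toEquiv).symm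
  have hnt : Nontrivial Ω := Fintype.one_lt_card_iff_nontrivial.1 (by omega)
  have h9 : 2 * Nat.card (alternatingGroup Ω) = (12).factorial := by
    rw [Nat.card_eq_fintype_card, two_mul_card_alternatingGroup, Fintype.card_perm, hΩ]
  have h10 : (12).factorial = 479001600 := by decide
  omega

/-- **`M₁₂` has no subgroup of index `297`.** -/
theorem no_M12 {T : Type*} [Group T] [Finite T] [IsSimpleGroup T] (h : Cfsg.Spor.IsoM12 T) (hT : Nat.card T = 95040)
    (X : Subgroup T) (hX : X.index = 297) : False := by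
  obtain ⟨e⟩ := h
  have hs : IsSimpleGroup Cfsg.Spor.M12 := e.symm.isSimpleGroup
  have hf : Finite Cfsg.Spor.M12 := Finite.of_equiv _ e.toEquiv
  have h2 := H419.Spor.M12.two_trans
  refine kill12 (Ω := H419.Spor.M12.Pts) (by decide +kernel) h2 (by rw [← hT]; exact (Nat.card_congr e.toEquiv).symm)
    (X.map e.toMonoidHom) ?_
  rw [← hX]
  exact Subgroup.index_map_equiv X e

end M12

end Cfsg.Agent.H283.RkTwo
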