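import Cfsg.Agent.H283.RkTwo.ExcNum
import Cfsg.Agent.H283.RkTwo.ExcKill
import Cfsg.Agent.H283.RkTwo.List
import Cfsg.Agent.NotCT.Orders
import Cfsg.Agent.S0243
import Cfsg.Agent.S0280
import Cfsg.Agent.S3428
import Cfsg.Agent.S3429

/-!
# S3414: the exceptions of S3428 and S3429

`exc` : `T` simple, `|T| < |T|_p ^ 3`, `T` has subgroups with the indices of the stabilizers of a chamber, a point and a line
of a generalized `n`-gon with parameters `p ^ a`, `p ^ b`, and the order of the stabilizer of a chamber is bounded: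
then `T` is of Lie type in characteristic `p` or in the list of S3414.
-/

set_option autoImplicit false

namespace Cfsg.Agent.H283.RkTwo

open Cfsg Cfsg.Agent.H873.Tits

universe u

variable {T : Type u} [Group T] [Finite T]

theorem card_alt {k N : ℕ} (e : Nonempty (T ≃* ↥(alternatingGroup (Fin k)))) (hk : 2 ≤ k) (hN : k.factorial = 2 * N) :
    Nat.card T = N := by
  obtain ⟨e⟩ := e
  have hnt : Nontrivial (Fin k) := Fin.nontrivial_iff_two_le.2 hk
  have h1 : 2 * Nat.card (alternatingGroup (Fin k)) = k.factorial := by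
    rw [Nat.card_eq_fintype_card, two_mul_card_alternatingGroup, Fintype.card_perm, Fintype.card_fin]
  rw [Nat.card_congr e.toEquiv]
  omega

theorem card_psl {F : Type} [Field F] [Fintype F] (e : Nonempty (T ≃* Matrix.ProjectiveSpecialLinearGroup (Fin 2) F)) :
    Nat.gcd 2 (Fintype.card F - 1) * ((Fintype.card F - 1) * Nat.card T) =
      (Fintype.card F ^ 2 - 1) * (Fintype.card F ^ 2 - Fintype.card F) := by
  obtain ⟨e⟩ := e
  have h := Cfsg.Agent.S0243.result (F := F) rfl 2 le_rfl
  rw [Nat.card_congr e.toEquiv, h, Fin.prod_univ_two]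
  simp

theorem card_psl_eq {F : Type} [Field F] [Fintype F] {r : ℕ} (hF : Fintype.card F = r) (h3 : 3 ≤ r) (hr : Odd r)
    (e : Nonempty (T ≃* Matrix.ProjectiveSpecialLinearGroup (Fin 2) F)) : 2 * Nat.card T = (r - 1) * r * (r + 1) := by
  have h := card_psl e
  rw [hF] at h
  have hg : Nat.gcd 2 (r - 1) = 2 := by
    apply Nat.gcd_eq_left
    obtain ⟨k, rfl⟩ := hr
    exact ⟨k, by omega⟩
  obtain ⟨k, rfl⟩ : ∃ k, r = k + 1 := ⟨r - 1, by omega⟩
  rw [hg] at h
  have h1 : (k + 1) ^ 2 - 1 = k * (k + 2) := by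
    have : (k + 1) ^ 2 = k * (k + 2) + 1 := by ring
    omega
  have h2 : (k + 1) ^ 2 - (k + 1) = k * (k + 1) := by
    have : (k + 1) ^ 2 = k * (k + 1) + (k + 1) := by ring
    omega
  rw [h1, h2, Nat.add_sub_cancel] at h
  rw [Nat.add_sub_cancel]
  apply Nat.eq_of_mul_eq_mul_left (show 0 < k by omega)
  calc k * (2 * Nat.card T) = 2 * (k * Nat.card T) := by ring
    _ = k * (k + 2) * (k * (k + 1)) := h
    _ = k * (k * (k + 1) * (k + 1 + 1)) := by ring

theorem card_psl_le {F : Type} [Field F] [Fintype F] (e : Nonempty (T ≃* Matrix.ProjectiveSpecialLinearGroup (Fin 2) F)) :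
    Nat.card T < (Fintype.card F + 1) ^ 3 := by
  have h := card_psl e
  have h2 : 2 ≤ Fintype.card F := Fintype.one_lt_card
  generalize Fintype.card F = q at h h2 ⊢
  obtain ⟨k, rfl⟩ : ∃ k, q = k + 1 := ⟨q - 1, by omega⟩
  have hg : 1 ≤ Nat.gcd 2 (k + 1 - 1) := Nat.gcd_pos_of_pos_left _ (by norm_num)
  have h1 : (k + 1) ^ 2 - 1 = k * (k + 2) := by
    have : (k + 1) ^ 2 = k * (k + 2) + 1 := by ring
    omega
  have h3 : (k + 1) ^ 2 - (k + 1) = k * (k + 1) := by
    have : (k + 1) ^ 2 = k * (k + 1) + (k + 1) := by ring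
    omega
  rw [h1, h3, Nat.add_sub_cancel] at h
  rw [Nat.add_sub_cancel] at hg
  have h4 : k * Nat.card T ≤ k * (k * (k + 1) * (k + 2)) := by
    calc k * Nat.card T ≤ Nat.gcd 2 k * (k * Nat.card T) := Nat.le_mul_of_pos_left _ hg
      _ = k * (k + 2) * (k * (k + 1)) := h
      _ = k * (k * (k + 1) * (k + 2)) := by ring
  have h5 := Nat.le_of_mul_le_mul_left h4 (by omega)
  nlinarith [sq_nonneg k]

theorem card_psu5 {F : Type} [Field F] [Fintype F] (hF : Fintype.card F = 4) (e : Nonempty (T ≃* PSU 5 F 2)) :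
    Nat.card T = 13685760 := by
  obtain ⟨e⟩ := e
  have h := Cfsg.Agent.S0280.result (F := F) (q := 2) (by rw [hF]; norm_num) 5 (by norm_num)
  rw [← Nat.card_congr e.toEquiv] at h
  simp only [Finset.prod_range_succ, Finset.prod_range_zero] at h
  norm_num [Nat.even_iff] at h
  omega

theorem card_psu3 {F : Type} [Field F] [Fintype F] (hF : Fintype.card F = 16) (e : Nonempty (T ≃* PSU 3 F 4)) :
    Nat.card T = 62400 := by
  obtain ⟨e⟩ := e
  have h := Cfsg.Agent.S0280.result (F := F) (q := 4) (by rw [hF]; norm_num) 3 (by norm_num)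
  rw [← Nat.card_congr e.toEquiv] at h
  simp only [Finset.prod_range_succ, Finset.prod_range_zero] at h
  norm_num [Nat.even_iff] at h
  omega

theorem chk_U34 : chk [] 2 62400 8 = true := by decide +kernel

/-- **The exceptions.** -/
theorem exc [IsSimpleGroup T] (hna : ¬ IsMulCommutative T) {p : ℕ} (hp : p.Prime)
    (hlt : Nat.card T < p ^ (3 * (Nat.card T).factorization p)) {n a b : ℕ} (hn : n = 4 ∨ n = 6 ∨ n = 8)
    (ha : 1 ≤ a) (hb : 1 ≤ b) (B0 X1 X2 : Subgroup T) (hB : B0.index = ch n (p ^ a) (p ^ b))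
    (hX1 : X1.index * (1 + p ^ a) = ch n (p ^ a) (p ^ b)) (hX2 : X2.index * (1 + p ^ b) = ch n (p ^ a) (p ^ b))
    (hd : Nat.card B0 ∣ (p ^ a * p ^ b) ^ (n / 2) * (hm p a * hm p b)) : IsLieTypeChar p T ∨ Concl T := by
  have hBN : Nat.card B0 * ch n (p ^ a) (p ^ b) = Nat.card T := by rw [← hB]; exact Subgroup.card_mul_index B0
  have hNpos : 0 < Nat.card T := Nat.card_pos
  have key : ∀ {ex : List (ℕ × ℕ × ℕ)} {N K : ℕ}, chk ex p N K = true → Nat.card T = N → N ≤ p ^ (2 * K) → (n, a, b) ∈ ex := by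
    intro ex N K h hN hK
    subst hN
    exact chk_sound h hp.two_le hNpos hK hn ha hb hBN hd
  have key0 : ∀ {N K : ℕ}, chk [] p N K = true → Nat.card T = N → N ≤ p ^ (2 * K) → False := by
    intro N K h hN hK
    simpa using key h hN hK
  by_cases hp2 : p = 2
  · subst hp2
    rcases Cfsg.Agent.S3429.result hna hlt with h | h | h | h | h | h | h | h | h | h | h | h | h | h | h | h | h | h | h | h
    · exact Or.inl h
    · exact Or.inr (by unfold Concl; tauto)
    · exfalso
      obtain ⟨F, i1, i2, hr, hF, e⟩ := h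
      by_cases h5 : 5 ≤ Fintype.card F
      · have hodd : Odd (Fintype.card F) := hr.odd_of_ne_two (by omega)
        obtain ⟨e', he'⟩ : ∃ e' : ℕ, Fintype.card F = 2 ^ e' + 1 ∨ Fintype.card F + 1 = 2 ^ e' := by
          rcases hF with ⟨x, hx⟩ | ⟨x, hx⟩
          · exact ⟨x, Or.inl hx⟩
          · have h2 : 0 < 2 ^ x := by positivity
            exact ⟨x, Or.inr (by omega)⟩
        exact psl_arith hr h5 he' (card_psl_eq rfl (by omega) hodd e) hn ha hb hBN hd
      · have h1 := card_psl_le e
        have h2 : ch n (2 ^ a) (2 ^ b) ≤ Nat.card T := Nat.le_of_dvd hNpos ⟨_, by rw [← hBN, mul_comm]⟩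
        have h3 := card_psl e
        have hs2 : 2 ≤ 2 ^ a := by
          calc 2 = 2 ^ 1 := by norm_num
            _ ≤ 2 ^ a := Nat.pow_le_pow_right (by norm_num) ha
        have ht2 : 2 ≤ 2 ^ b := by
          calc 2 = 2 ^ 1 := by norm_num
            _ ≤ 2 ^ b := Nat.pow_le_pow_right (by norm_num) hb
        have h4 := lt_ch hn (s := 2 ^ a) (t := 2 ^ b) (by omega) (by omega)
        have h5' : 45 ≤ (1 + 2 ^ a) * (1 + 2 ^ b) * (1 + 2 ^ a * 2 ^ b) := by
          calc 45 = (1 + 2) * (1 + 2) * (1 + 2 * 2) := by norm_num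
            _ ≤ (1 + 2 ^ a) * (1 + 2 ^ b) * (1 + 2 ^ a * 2 ^ b) := by gcongr
        have h6 := hr.two_le
        have h7 : Nat.card T ≤ 12 ∨ Fintype.card F = 4 := by
          generalize Fintype.card F = q at h3 h5 h6
          interval_cases q
          · left; norm_num at h3; omega
          · left; norm_num at h3; omega
          · right; rfl
        rcases h7 with h7 | h7
        · omega
        · rw [h7] at hr
          exact absurd hr (by norm_num)
    · exact Or.inr (by unfold Concl; tauto)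
    · exact (key0 chk_A8 (card_alt h (by norm_num) (by decide)) (by norm_num)).elim
    · exact (key0 chk_A9_2 (card_alt h (by norm_num) (by decide)) (by norm_num)).elim
    · exact (key0 chk_A10 (card_alt h (by norm_num) (by decide)) (by norm_num)).elim
    · exact Or.inr (Or.inr (Or.inr (Or.inr (Or.inr (Or.inr (Or.inr (Or.inl h)))))))
    · obtain ⟨F, i1, i2, hF, e⟩ := h
      exact (key0 chk_U34 (card_psu3 hF e) (by norm_num)).elim
    · exfalso
      have hN := NotCT.Orders.m12 h
      have h1 := key chk_M12 hN (by norm_num)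
      simp only [List.mem_cons, Prod.mk.injEq, List.not_mem_nil, or_false] at h1
      rcases h1 with ⟨rfl, rfl, rfl⟩ | ⟨rfl, rfl, rfl⟩
      · refine no_M12 h hN X1 ?_
        rw [ch_four] at hX1
        omega
      · refine no_M12 h hN X2 ?_
        rw [ch_four] at hX2
        omega
    · exact (key0 chk_M22 (NotCT.Orders.m22 h) (by norm_num)).elim
    · exact (key0 chk_M24 (NotCT.Orders.m24 h) (by norm_num)).elim
    · exact (key0 chk_J2 (NotCT.Orders.j2 h) (by norm_num)).elim
    · exact (key0 chk_HS (NotCT.Orders.hs h) (by norm_num)).elim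
    · exact (key0 chk_Suz (NotCT.Orders.suz h) (by norm_num)).elim
    · exact (key0 chk_Ru (NotCT.Orders.ru h) (by norm_num)).elim
    · exact (key0 chk_Fi22 (NotCT.Orders.fi22 h) (by norm_num)).elim
    · exact (key0 chk_Co2 (NotCT.Orders.co2 h) (by norm_num)).elim
    · exact (key0 chk_Co1 (NotCT.Orders.co1 h) (by norm_num)).elim
    · exact (key0 chk_B (NotCT.Orders.b h) (by norm_num)).elim
  · rcases Cfsg.Agent.S3428.result hna p hp hp2 hlt with h | ⟨rfl, h⟩ | ⟨rfl, h | h⟩ | h | ⟨rfl, h⟩ | ⟨rfl, h⟩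
    · exact Or.inl h
    · exact (key0 chk_A5 (card_alt h (by norm_num) (by decide)) (by norm_num)).elim
    · exact Or.inr (by unfold Concl; tauto)
    · exfalso
      have hN : Nat.card T = 181440 := card_alt h (by norm_num) (by decide)
      have h1 := key chk_A9_3 hN (by norm_num)
      obtain ⟨e⟩ := h
      simp only [List.mem_cons, Prod.mk.injEq, List.not_mem_nil, or_false] at h1
      rcases h1 with ⟨rfl, rfl, rfl⟩ | ⟨rfl, rfl, rfl⟩
      · refine no_A9 (X := X2.map e.toMonoidHom) ?_
        rw [show (X2.map e.toMonoidHom).index = X2.index from Subgroup.index_map_equiv X2 e]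
        rw [ch_four] at hX2
        omega
      · refine no_A9 (X := X1.map e.toMonoidHom) ?_
        rw [show (X1.map e.toMonoidHom).index = X1.index from Subgroup.index_map_equiv X1 e]
        rw [ch_four] at hX1
        omega
    · exfalso
      obtain ⟨F, i1, i2, hF, e⟩ := h
      have h1 := card_psl_le e
      rw [hF] at h1
      have h2 : ch n (p ^ a) (p ^ b) ≤ Nat.card T := Nat.le_of_dvd hNpos ⟨_, by rw [← hBN, mul_comm]⟩
      have hs2 : p ≤ p ^ a := by
        calc p = p ^ 1 := by rw [pow_one]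
          _ ≤ p ^ a := Nat.pow_le_pow_right hp.pos ha
      have ht2 : p ≤ p ^ b := by
        calc p = p ^ 1 := by rw [pow_one]
          _ ≤ p ^ b := Nat.pow_le_pow_right hp.pos hb
      have h4 := lt_ch hn (s := p ^ a) (t := p ^ b) (by have := hp.pos; omega) (by have := hp.pos; omega)
      have h5 : (1 + p) * (1 + p) * (1 + p * p) ≤ (1 + p ^ a) * (1 + p ^ b) * (1 + p ^ a * p ^ b) := by gcongr
      have h6 : p ^ 3 ≤ (1 + p) * (1 + p) * (1 + p * p) := by nlinarith [hp.pos]
      omega
    · exfalso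
      obtain ⟨F, i1, i2, hF, e⟩ := h
      have h3 := card_psl e
      rw [hF] at h3
      norm_num at h3
      exact key0 chk_L28 (by omega) (by norm_num)
    · obtain ⟨F, i1, i2, hF, e⟩ := h
      exact (key0 chk_U52 (card_psu5 hF e) (by norm_num)).elim

end Cfsg.Agent.H283.RkTwo
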