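import Cfsg.Agent.H873.Tits.End

/-!
# S3414: the exceptions of S3428 and S3429, arithmetic

`hm p k` : common multiple of the orders of the local two point stabilizers of degree `p ^ k + 1`.
`chk_sound` : finite check for the possible `(n, a, b)`.
-/

set_option autoImplicit false

namespace Cfsg.Agent.H283.RkTwo

open Cfsg.Agent.H873.Tits

/-- common multiple of the orders of the local two point stabilizers of degree `p ^ k + 1` -/
def hm (p k : ℕ) : ℕ :=
  Nat.lcm ((p ^ k - 1) * k) (if k % 3 = 0 then (p ^ (2 * (k / 3)) - 1) * (2 * (k / 3)) else 1)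

theorem dvd_hm {p k T : ℕ} (h : TBd p k T ∨ Spec p k T) : T ∣ hm p k := by
  rcases h with (h | ⟨f, rfl, h⟩) | ⟨-, -, rfl⟩ | ⟨rfl, rfl, h⟩ | ⟨rfl, -, h⟩ | ⟨rfl, rfl, h⟩
  · exact h.trans (Nat.dvd_lcm_left _ _)
  · refine h.trans ?_
    unfold hm
    rw [if_pos (by omega), Nat.mul_div_cancel_left f (by norm_num)]
    exact Nat.dvd_lcm_right _ _
  · exact one_dvd _
  · exact h.trans (by decide)
  · refine h.trans ?_
    unfold hm
    rw [pow_one, mul_one]
    exact Nat.dvd_lcm_left _ _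
  · exact h.trans (by decide)

theorem ch_four (s t : ℕ) : ch 4 s t = (1 + s) * (1 + t) * (1 + s * t) := by
  unfold ch
  norm_num [Finset.sum_range_succ]

theorem ch_six (s t : ℕ) : ch 6 s t = (1 + s) * (1 + t) * (1 + s * t + (s * t) ^ 2) := by
  unfold ch
  norm_num [Finset.sum_range_succ]

theorem ch_eight (s t : ℕ) : ch 8 s t = (1 + s) * (1 + t) * (1 + s * t + (s * t) ^ 2 + (s * t) ^ 3) := by
  unfold ch
  norm_num [Finset.sum_range_succ]

/-- computable form of `ch` -/
def chN (n s t : ℕ) : ℕ :=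
  if n = 4 then (1 + s) * (1 + t) * (1 + s * t)
  else if n = 6 then (1 + s) * (1 + t) * (1 + s * t + (s * t) ^ 2)
  else (1 + s) * (1 + t) * (1 + s * t + (s * t) ^ 2 + (s * t) ^ 3)

theorem ch_eq {n : ℕ} (hn : n = 4 ∨ n = 6 ∨ n = 8) (s t : ℕ) : ch n s t = chN n s t := by
  rcases hn with rfl | rfl | rfl
  · exact ch_four s t
  · exact ch_six s t
  · exact ch_eight s t

/-- `(n, a, b)` is possible for a group of order `N` -/
def chk1 (p N n a b : ℕ) : Bool :=
  Nat.beq (N % chN n (p ^ a) (p ^ b)) 0 &&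
    Nat.beq ((p ^ a * p ^ b) ^ (n / 2) * (hm p a * hm p b) % (N / chN n (p ^ a) (p ^ b))) 0

/-- all possible `(n, a, b)` are in the list `ex` -/
def chk (ex : List (ℕ × ℕ × ℕ)) (p N K : ℕ) : Bool :=
  (List.range K).all fun a => (List.range K).all fun b => [4, 6, 8].all fun n =>
    Nat.beq a 0 || Nat.beq b 0 || !(chk1 p N n a b) || ex.any (fun x => Nat.beq x.1 n && Nat.beq x.2.1 a && Nat.beq x.2.2 b)

theorem lt_ch {n : ℕ} (hn : n = 4 ∨ n = 6 ∨ n = 8) {s t : ℕ} (hs : 1 ≤ s) (ht : 1 ≤ t) :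
    (1 + s) * (1 + t) * (1 + s * t) ≤ ch n s t := by
  rcases hn with rfl | rfl | rfl
  · rw [ch_four]
  · rw [ch_six]
    exact Nat.mul_le_mul_left _ (Nat.le_add_right _ _)
  · rw [ch_eight]
    refine Nat.mul_le_mul_left _ ?_
    omega

theorem sq_lt_ch {n : ℕ} (hn : n = 4 ∨ n = 6 ∨ n = 8) {s t : ℕ} (hs : 1 ≤ s) (ht : 1 ≤ t) :
    s ^ 2 < ch n s t ∧ t ^ 2 < ch n s t := by
  have h := lt_ch hn hs ht
  have h1 : s ^ 2 < (1 + s) * (1 + t) * (1 + s * t) := by
    have h3 : s ≤ s * t := Nat.le_mul_of_pos_right _ ht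
    have h4 : (1 + s) * 1 ≤ (1 + s) * (1 + t) := Nat.mul_le_mul_left _ (by omega)
    calc s ^ 2 < (1 + s) * 1 * (1 + s) := by nlinarith
      _ ≤ (1 + s) * (1 + t) * (1 + s * t) := Nat.mul_le_mul h4 (by omega)
  have h2 : t ^ 2 < (1 + s) * (1 + t) * (1 + s * t) := by
    have h3 : t ≤ s * t := Nat.le_mul_of_pos_left _ hs
    have h4 : 1 * (1 + t) ≤ (1 + s) * (1 + t) := Nat.mul_le_mul_right _ (by omega)
    calc t ^ 2 < 1 * (1 + t) * (1 + t) := by nlinarith
      _ ≤ (1 + s) * (1 + t) * (1 + s * t) := Nat.mul_le_mul h4 (by omega)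
  exact ⟨h1.trans_le h, h2.trans_le h⟩

theorem chk_sound {ex : List (ℕ × ℕ × ℕ)} {p N K : ℕ} (h : chk ex p N K = true) (hp : 2 ≤ p) (hN : 0 < N)
    (hK : N ≤ p ^ (2 * K)) {n a b : ℕ} (hn : n = 4 ∨ n = 6 ∨ n = 8) (ha : 1 ≤ a) (hb : 1 ≤ b) {B : ℕ}
    (hB : B * ch n (p ^ a) (p ^ b) = N) (hd : B ∣ (p ^ a * p ^ b) ^ (n / 2) * (hm p a * hm p b)) : (n, a, b) ∈ ex := by
  have hpos : 0 < ch n (p ^ a) (p ^ b) := by
    rcases Nat.eq_zero_or_pos (ch n (p ^ a) (p ^ b)) with h0 | h0
    · rw [h0, mul_zero] at hB; omega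
    · exact h0
  have hle : ch n (p ^ a) (p ^ b) ≤ N := Nat.le_of_dvd hN ⟨B, by rw [← hB, mul_comm]⟩
  obtain ⟨h1, h2⟩ := sq_lt_ch hn (s := p ^ a) (t := p ^ b) (Nat.one_le_pow _ _ (by omega)) (Nat.one_le_pow _ _ (by omega))
  have haK : a < K := by
    by_contra hc
    have h3 : p ^ (2 * K) ≤ (p ^ a) ^ 2 := by
      rw [← pow_mul]
      exact Nat.pow_le_pow_right (by omega) (by omega)
    omega
  have hbK : b < K := by
    by_contra hc
    have h3 : p ^ (2 * K) ≤ (p ^ b) ^ 2 := by
      rw [← pow_mul]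
      exact Nat.pow_le_pow_right (by omega) (by omega)
    omega
  unfold chk at h
  rw [List.all_eq_true] at h
  have h3 := h a (List.mem_range.2 haK)
  rw [List.all_eq_true] at h3
  have h4 := h3 b (List.mem_range.2 hbK)
  rw [List.all_eq_true] at h4
  have h5 := h4 n (by rcases hn with rfl | rfl | rfl <;> simp)
  have h6 : chk1 p N n a b = true := by
    unfold chk1
    rw [← ch_eq hn, Bool.and_eq_true]
    have h7 : N / ch n (p ^ a) (p ^ b) = B := by rw [← hB]; exact Nat.mul_div_cancel _ hpos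
    constructor
    · rw [Nat.beq_eq, ← hB]
      exact Nat.mul_mod_left _ _
    · rw [h7, Nat.beq_eq]
      exact Nat.mod_eq_zero_of_dvd hd
  rw [h6, Bool.or_eq_true, Bool.or_eq_true, Bool.or_eq_true, Nat.beq_eq, Nat.beq_eq, Bool.not_true] at h5
  rcases h5 with ((h5 | h5) | h5) | h5
  · omega
  · omega
  · exact absurd h5 (by decide)
  · rw [List.any_eq_true] at h5
    obtain ⟨⟨x, y, z⟩, hx, hxe⟩ := h5
    rw [Bool.and_eq_true, Bool.and_eq_true, Nat.beq_eq, Nat.beq_eq, Nat.beq_eq] at hxe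
    obtain ⟨⟨h7, h8⟩, h9⟩ := hxe
    simp only at h7 h8 h9
    subst h7 h8 h9
    exact hx

theorem chk_A5 : chk [] 5 60 3 = true := by decide +kernel
theorem chk_A9_3 : chk [(4, 1, 2), (4, 2, 1)] 3 181440 6 = true := by decide +kernel
theorem chk_L28 : chk [] 3 504 3 = true := by decide +kernel
theorem chk_U52 : chk [] 3 13685760 8 = true := by decide +kernel
theorem chk_A8 : chk [] 2 20160 8 = true := by decide +kernel
theorem chk_A9_2 : chk [] 2 181440 9 = true := by decide +kernel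
theorem chk_A10 : chk [] 2 1814400 11 = true := by decide +kernel
theorem chk_M12 : chk [(4, 2, 3), (4, 3, 2)] 2 95040 9 = true := by decide +kernel
theorem chk_M22 : chk [] 2 443520 10 = true := by decide +kernel
theorem chk_M24 : chk [] 2 244823040 14 = true := by decide +kernel
theorem chk_J2 : chk [] 2 604800 10 = true := by decide +kernel
theorem chk_HS : chk [] 2 44352000 13 = true := by decide +kernel
theorem chk_Suz : chk [] 2 448345497600 20 = true := by decide +kernel
theorem chk_Ru : chk [] 2 145926144000 19 = true := by decide +kernel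
theorem chk_Fi22 : chk [] 2 64561751654400 23 = true := by decide +kernel
theorem chk_Co2 : chk [] 2 42305421312000 23 = true := by decide +kernel
theorem chk_Co1 : chk [] 2 4157776806543360000 31 = true := by decide +kernel
theorem chk_B : chk [] 2 4154781481226426191177580544000000 56 = true := by decide +kernel

/-! ### `PSL_2(r)`, `r` a Fermat or a Mersenne prime -/

theorem prime_le_of_dvd_hm {r p k : ℕ} (hr : r.Prime) (hp : 2 ≤ p) (hk : 1 ≤ k) (h : r ∣ hm p k) : r ≤ p ^ k := by
  have hlt : k < p ^ k := Nat.lt_pow_self (by omega)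
  have h1 : r ∣ (p ^ k - 1) * k * (if k % 3 = 0 then (p ^ (2 * (k / 3)) - 1) * (2 * (k / 3)) else 1) := by
    refine h.trans ?_
    exact Nat.lcm_dvd_mul _ _
  rcases (hr.dvd_mul).1 h1 with h2 | h2
  · rcases (hr.dvd_mul).1 h2 with h3 | h3
    · have := Nat.le_of_dvd (by omega) h3
      omega
    · have := Nat.le_of_dvd (by omega) h3
      omega
  · split_ifs at h2 with h3
    · have h4 : p ^ (2 * (k / 3)) ≤ p ^ k := Nat.pow_le_pow_right (by omega) (by omega)
      have h5 : 1 < p ^ (2 * (k / 3)) := Nat.one_lt_pow (by omega) (by omega)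
      rcases (hr.dvd_mul).1 h2 with h6 | h6
      · have := Nat.le_of_dvd (by omega) h6
        omega
      · have := Nat.le_of_dvd (by omega) h6
        omega
    · exact absurd (Nat.dvd_one.1 h2) hr.one_lt.ne'

theorem odd_ch {n : ℕ} (hn : n = 4 ∨ n = 6 ∨ n = 8) {s t : ℕ} (hs : Even s) (ht : Even t) : Odd (ch n s t) := by
  have h1 : Odd (1 + s) := by
    rw [add_comm]; exact hs.add_one
  have h2 : Odd (1 + t) := by
    rw [add_comm]; exact ht.add_one
  have h3 : Even (s * t) := hs.mul_right t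
  have h4 : Odd (1 + s * t) := by
    rw [add_comm]; exact h3.add_one
  have h5 : Even ((s * t) ^ 2) := h3.pow_of_ne_zero (by norm_num)
  have h6 : Even ((s * t) ^ 3) := h3.pow_of_ne_zero (by norm_num)
  rcases hn with rfl | rfl | rfl
  · rw [ch_four]
    exact (h1.mul h2).mul h4
  · rw [ch_six]
    exact (h1.mul h2).mul (h4.add_even h5)
  · rw [ch_eight]
    exact (h1.mul h2).mul ((h4.add_even h5).add_even h6)

theorem aux_le {r F G c : ℕ} (hr : r ∣ F) (hF : 0 < F) (hc : c = F * G) (h2c : 2 * c ≤ (r + 1) * r) : 2 * G ≤ F + 1 := by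
  have h1 : r ≤ F := Nat.le_of_dvd hF hr
  have h2 : (r + 1) * r ≤ (F + 1) * F := Nat.mul_le_mul (by omega) h1
  have h3 : F * (2 * G) ≤ F * (F + 1) := by
    rw [hc] at h2c
    calc F * (2 * G) = 2 * (F * G) := by ring
      _ ≤ (r + 1) * r := h2c
      _ ≤ (F + 1) * F := h2
      _ = F * (F + 1) := by ring
  exact Nat.le_of_mul_le_mul_left h3 hF

/-- the case `r ∣ x ^ 2 + x + 1` -/
theorem aux_six {r e w j D : ℕ} (hre : r = 2 ^ e + 1 ∨ r + 1 = 2 ^ e) (hw : 2 ≤ w) (hj : 1 ≤ j)
    (h : 2 ^ w * 2 ^ w + 2 ^ w + 1 = r * j) (hD : 2 ^ w + 1 ≤ D) (h2 : 2 * (D * j) ≤ r + 1) : False := by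
  have hW4 : 4 ≤ 2 ^ w := by
    calc 4 = 2 ^ 2 := by norm_num
      _ ≤ 2 ^ w := Nat.pow_le_pow_right (by norm_num) hw
  generalize hW : (2 : ℕ) ^ w = W at *
  generalize hE : (2 : ℕ) ^ e = E at *
  have hDj : (W + 1) * j ≤ D * j := Nat.mul_le_mul_right _ hD
  have hWj : 2 * (W * j) ≤ E := by
    have h3 : (W + 1) * j = W * j + j := by ring
    rcases hre with rfl | hre
    · omega
    · omega
  have hWW : W ≤ W * j := Nat.le_mul_of_pos_right _ hj
  have hjW : 4 * j ≤ W * j := Nat.mul_le_mul_right _ hW4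
  by_cases hcase : E ≤ W * W
  · -- `E ∣ W * W`
    have hdvd : E ∣ W * W := by
      rw [← hE, ← hW, ← pow_add] at hcase ⊢
      exact pow_dvd_pow 2 ((Nat.pow_le_pow_iff_right (by norm_num)).1 hcase)
    obtain ⟨k, hk⟩ := hdvd
    rw [hk] at h
    rcases hre with rfl | hre
    · -- `E * k + W + 1 = (E + 1) * j`
      have h3 : E * k + (W + 1) = E * j + j := by rw [← add_assoc, h]; ring
      have hkj : k = j := by
        rcases Nat.lt_trichotomy k j with h4 | h4 | h4
        · exfalso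
          obtain ⟨d, rfl⟩ := Nat.exists_eq_add_of_lt h4
          have : E * (k + d + 1) = E * k + E * d + E := by ring
          have h5 : 0 ≤ E * d := Nat.zero_le _
          omega
        · exact h4
        · exfalso
          obtain ⟨d, rfl⟩ := Nat.exists_eq_add_of_lt h4
          have : E * (j + d + 1) = E * j + E * d + E := by ring
          have h5 : 0 ≤ E * d := Nat.zero_le _
          omega
      subst hkj
      have h6 : k = W + 1 := by omega
      subst h6
      have h7 : E * (W + 1) = E * W + E := by ring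
      have h8 : 2 * W * W ≤ E * W := by
        apply Nat.mul_le_mul_right
        omega
      have h9 : 2 * W * W = W * W + W * W := by ring
      omega
    · obtain ⟨r', hr'⟩ : ∃ r', r' = r := ⟨r, rfl⟩
      have h3 : E * k + (W + 1) + j = E * j := by
        have h4 : E * j = r * j + j := by rw [← hre]; ring
        rw [h4, ← h]; ring
      rcases Nat.lt_or_ge k j with h4 | h4
      · obtain ⟨d, rfl⟩ := Nat.exists_eq_add_of_lt h4
        have h6 : E * (k + d + 1) = E * k + E * d + E := by ring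
        have h5 : 0 ≤ E * d := Nat.zero_le _
        omega
      · have h5 : E * j ≤ E * k := Nat.mul_le_mul_left _ h4
        omega
  · have h2W : 2 * (W * W) ≤ E := by
      have h3 : W * W < E := by omega
      rw [← hE, ← hW, ← pow_add] at h3 ⊢
      have h4 := (Nat.pow_lt_pow_iff_right (a := 2) (by norm_num)).1 h3
      rw [← pow_succ']
      exact Nat.pow_le_pow_right (by norm_num) h4
    have h4 : 4 * W ≤ W * W := Nat.mul_le_mul_right _ hW4
    have h5 : E ≤ E * j := Nat.le_mul_of_pos_right _ hj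
    rcases hre with rfl | hre
    · have h6 : (E + 1) * j = E * j + j := by ring
      omega
    · have h6 : r * 1 ≤ r * j := Nat.mul_le_mul_left _ hj
      omega

theorem psl_arith {r e N a b n B : ℕ} (hr : r.Prime) (h5 : 5 ≤ r) (hre : r = 2 ^ e + 1 ∨ r + 1 = 2 ^ e)
    (hN : 2 * N = (r - 1) * r * (r + 1)) (hn : n = 4 ∨ n = 6 ∨ n = 8) (ha : 1 ≤ a) (hb : 1 ≤ b)
    (hB : B * ch n (2 ^ a) (2 ^ b) = N) (hd : B ∣ (2 ^ a * 2 ^ b) ^ (n / 2) * (hm 2 a * hm 2 b)) : False := by
  have hs2 : 2 ≤ 2 ^ a := by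
    calc 2 = 2 ^ 1 := by norm_num
      _ ≤ 2 ^ a := Nat.pow_le_pow_right (by norm_num) ha
  have ht2 : 2 ≤ 2 ^ b := by
    calc 2 = 2 ^ 1 := by norm_num
      _ ≤ 2 ^ b := Nat.pow_le_pow_right (by norm_num) hb
  have hodd : Odd (ch n (2 ^ a) (2 ^ b)) :=
    odd_ch hn (even_two.pow_of_ne_zero (by omega)) (even_two.pow_of_ne_zero (by omega))
  have he : 2 ≤ e := by
    by_contra hc
    have h1 : 2 ^ e ≤ 2 ^ 1 := Nat.pow_le_pow_right (by norm_num) (by omega)
    rcases hre with h | h <;> omega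
  obtain ⟨e', rfl⟩ : ∃ e', e = e' + 1 := ⟨e - 1, by omega⟩
  have h2e : 2 ^ (e' + 1) = 2 * 2 ^ e' := by rw [pow_succ, mul_comm]
  have hNm : ∃ m' : ℕ, 2 * m' ≤ r + 1 ∧ N = 2 ^ (e' + 1) * (m' * r) := by
    rcases hre with h | h
    · refine ⟨2 ^ e' + 1, by omega, ?_⟩
      have h1 : r - 1 = 2 ^ (e' + 1) := by omega
      have h2 : r + 1 = 2 * (2 ^ e' + 1) := by omega
      rw [h1, h2] at hN
      apply Nat.eq_of_mul_eq_mul_left (show 0 < 2 by norm_num)
      rw [hN]; ring
    · refine ⟨2 ^ e' - 1, by omega, ?_⟩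
      have h1 : r - 1 = 2 * (2 ^ e' - 1) := by omega
      rw [h1, h] at hN
      apply Nat.eq_of_mul_eq_mul_left (show 0 < 2 by norm_num)
      rw [hN]; ring
  obtain ⟨m', hm1, hm2⟩ := hNm
  have hNpos : 0 < N := by
    rcases Nat.eq_zero_or_pos N with h | h
    · rw [h] at hN
      have h1 : 0 < (r - 1) * r * (r + 1) := by
        have : 0 < r - 1 := by omega
        positivity
      omega
    · exact h
  have hm0 : 0 < m' := by
    rcases Nat.eq_zero_or_pos m' with h | h
    · rw [h] at hm2; simp at hm2; omega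
    · exact h
  set c := ch n (2 ^ a) (2 ^ b) with hc
  have hcdvd : c ∣ m' * r := by
    have h1 : c ∣ 2 ^ (e' + 1) * (m' * r) := by rw [← hm2, ← hB]; exact Dvd.intro_left B rfl
    exact Nat.Coprime.dvd_of_dvd_mul_left ((Nat.coprime_two_right.2 hodd).pow_right _) h1
  have h2c : 2 * c ≤ (r + 1) * r := by
    have h1 := Nat.le_of_dvd (Nat.mul_pos hm0 (by omega)) hcdvd
    calc 2 * c ≤ 2 * (m' * r) := by omega
      _ = (2 * m') * r := by ring
      _ ≤ (r + 1) * r := Nat.mul_le_mul_right _ hm1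
  have hrN : r ∣ B * c := by rw [hB, hm2]; exact Dvd.intro_left (2 ^ (e' + 1) * m') (by ring)
  rcases (hr.dvd_mul).1 hrN with hrB | hrc
  · -- `r ∣ B`
    have hB0 : 0 < B := by
      rcases Nat.eq_zero_or_pos B with h | h
      · rw [h, zero_mul] at hB; omega
      · exact h
    have hrB' : r ≤ B := Nat.le_of_dvd hB0 hrB
    have hr2 : ¬ r ∣ 2 := fun h => by
      have := Nat.le_of_dvd (by norm_num) h
      omega
    have hmax : r ≤ 2 ^ a ∨ r ≤ 2 ^ b := by
      rcases (hr.dvd_mul).1 (hrB.trans hd) with h | h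
      · exfalso
        have h1 := hr.dvd_of_dvd_pow h
        rcases (hr.dvd_mul).1 h1 with h2 | h2
        · exact hr2 (hr.dvd_of_dvd_pow h2)
        · exact hr2 (hr.dvd_of_dvd_pow h2)
      · rcases (hr.dvd_mul).1 h with h1 | h1
        · exact Or.inl (prime_le_of_dvd_hm hr le_rfl ha h1)
        · exact Or.inr (prime_le_of_dvd_hm hr le_rfl hb h1)
    have hsq := sq_lt_ch hn (s := 2 ^ a) (t := 2 ^ b) (by omega) (by omega)
    have hrc2 : r ^ 2 < c := by
      rcases hmax with h | h
      · exact lt_of_le_of_lt (Nat.pow_le_pow_left h 2) hsq.1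
      · exact lt_of_le_of_lt (Nat.pow_le_pow_left h 2) hsq.2
    have h1 : (r + 1) * r ≤ 2 * r ^ 2 := by nlinarith
    omega
  · -- `r ∣ c`
    generalize hs : (2 : ℕ) ^ a = s at *
    generalize ht : (2 : ℕ) ^ b = t at *
    have hx : 0 < s * t := by positivity
    rcases hn with rfl | rfl | rfl
    · rw [ch_four] at hc
      rw [hc] at hrc
      rcases (hr.dvd_mul).1 hrc with h | h
      · rcases (hr.dvd_mul).1 h with h | h
        · have := aux_le h (by omega) (c := c) (G := (1 + t) * (1 + s * t)) (by rw [hc]; ring) h2c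
          nlinarith
        · have := aux_le h (by omega) (c := c) (G := (1 + s) * (1 + s * t)) (by rw [hc]; ring) h2c
          nlinarith
      · have := aux_le h (by omega) (c := c) (G := (1 + s) * (1 + t)) (by rw [hc]; ring) h2c
        nlinarith
    · rw [ch_six] at hc
      rw [hc] at hrc
      rcases (hr.dvd_mul).1 hrc with h | h
      · rcases (hr.dvd_mul).1 h with h | h
        · have := aux_le h (by omega) (c := c) (G := (1 + t) * (1 + s * t + (s * t) ^ 2)) (by rw [hc]; ring) h2c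
          nlinarith
        · have := aux_le h (by omega) (c := c) (G := (1 + s) * (1 + s * t + (s * t) ^ 2)) (by rw [hc]; ring) h2c
          nlinarith
      · obtain ⟨j, hj⟩ := h
        have hj1 : 1 ≤ j := by
          rcases Nat.eq_zero_or_pos j with h0 | h0
          · rw [h0, mul_zero] at hj; omega
          · exact h0
        have hst : s * t = 2 ^ (a + b) := by rw [← hs, ← ht, pow_add]
        refine aux_six (r := r) (e := e' + 1) (w := a + b) (j := j) (D := (1 + s) * (1 + t)) hre (by omega) hj1 ?_ ?_ ?_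
        · rw [← hst, ← hj]; ring
        · rw [← hst]; nlinarith
        · have h1 : 2 * ((1 + s) * (1 + t) * j) * r ≤ (r + 1) * r := by
            calc 2 * ((1 + s) * (1 + t) * j) * r = 2 * ((1 + s) * (1 + t) * (r * j)) := by ring
              _ = 2 * c := by rw [← hj, hc]
              _ ≤ (r + 1) * r := h2c
          exact Nat.le_of_mul_le_mul_right h1 (by omega)
    · rw [ch_eight] at hc
      have hc' : c = (1 + s) * (1 + t) * ((1 + s * t) * (1 + (s * t) ^ 2)) := by rw [hc]; ring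
      rw [hc'] at hrc
      rcases (hr.dvd_mul).1 hrc with h | h
      · rcases (hr.dvd_mul).1 h with h | h
        · have := aux_le h (by omega) (c := c) (G := (1 + t) * ((1 + s * t) * (1 + (s * t) ^ 2))) (by rw [hc']; ring) h2c
          nlinarith [Nat.zero_le ((s * t) ^ 2), Nat.zero_le (t * (s * t) * (s * t) ^ 2)]
        · have := aux_le h (by omega) (c := c) (G := (1 + s) * ((1 + s * t) * (1 + (s * t) ^ 2))) (by rw [hc']; ring) h2c
          nlinarith [Nat.zero_le ((s * t) ^ 2), Nat.zero_le (s * (s * t) * (s * t) ^ 2)]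
      · rcases (hr.dvd_mul).1 h with h | h
        · have := aux_le h (by omega) (c := c) (G := (1 + s) * (1 + t) * (1 + (s * t) ^ 2)) (by rw [hc']; ring) h2c
          nlinarith [Nat.zero_le ((s * t) ^ 2)]
        · have := aux_le h (by omega) (c := c) (G := (1 + s) * (1 + t) * (1 + s * t)) (by rw [hc']; ring) h2c
          nlinarith [Nat.zero_le ((s * t) ^ 2)]

end Cfsg.Agent.H283.RkTwo
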