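import Mathlib

/-!
# Frattini arguments inside a normal subgroup, coprime indices
-/

set_option autoImplicit false

namespace Cfsg.Agent.H283.RkTwo

open Subgroup

variable {G : Type*} [Group G] [Finite G] {p : ℕ} [hp : Fact p.Prime]

omit hp in
theorem relIndex_mul_card' {V Y : Subgroup G} (h : V ≤ Y) : V.relIndex Y * Nat.card V = Nat.card Y := by
  have h1 := (V.subgroupOf Y).index_mul_card
  rw [Nat.card_congr (Subgroup.subgroupOfEquivOfLe h).toEquiv] at h1
  exact h1

/-- Two Sylow subgroups of `Y` are conjugate in `Y`. -/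
theorem exists_conj_in {V V' Y : Subgroup G} (hV : V ≤ Y) (hV' : V' ≤ Y) (h1 : IsPGroup p V) (h2 : IsPGroup p V')
    (h3 : ¬ p ∣ V.relIndex Y) (h4 : ¬ p ∣ V'.relIndex Y) : ∃ y ∈ Y, V.map (MulAut.conj y).toMonoidHom = V' := by
  have e1 : IsPGroup p (V.subgroupOf Y) := h1.of_equiv (Subgroup.subgroupOfEquivOfLe hV).symm
  have e2 : IsPGroup p (V'.subgroupOf Y) := h2.of_equiv (Subgroup.subgroupOfEquivOfLe hV').symm
  let Q : Sylow p Y := e1.toSylow h3
  let Q' : Sylow p Y := e2.toSylow h4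
  obtain ⟨y, hy⟩ := MulAction.exists_smul_eq Y Q Q'
  have h5 : (Q : Subgroup Y).map (MulAut.conj y).toMonoidHom = (Q' : Subgroup Y) := by
    rw [← hy]; rfl
  have hQ : (Q : Subgroup Y) = V.subgroupOf Y := rfl
  have hQ' : (Q' : Subgroup Y) = V'.subgroupOf Y := rfl
  rw [hQ, hQ'] at h5
  refine ⟨y, y.2, ?_⟩
  have h6 : ((V.subgroupOf Y).map (MulAut.conj y).toMonoidHom).map Y.subtype = (V'.subgroupOf Y).map Y.subtype := by
    rw [h5]
  rw [Subgroup.map_map, Subgroup.map_subgroupOf_eq_of_le hV'] at h6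
  rw [← h6]
  have h7 : Y.subtype.comp (MulAut.conj y).toMonoidHom = (MulAut.conj (y : G)).toMonoidHom.comp Y.subtype := by
    ext x; rfl
  rw [h7, ← Subgroup.map_map, Subgroup.map_subgroupOf_eq_of_le hV]

/-- **Frattini argument**: `V` is a Sylow subgroup of the normal subgroup `T`, `V ≤ X`. -/
theorem frattini {T V X : Subgroup G} [hT : T.Normal] (hVT : V ≤ T) (hVX : V ≤ X) (hV : IsPGroup p V)
    (hi : ¬ p ∣ V.relIndex T) {x : G} (hx : x ∈ X) : ∃ y ∈ T ⊓ X, y⁻¹ * x ∈ normalizer (V : Set G) := by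
  have hVY : V ≤ T ⊓ X := le_inf hVT hVX
  have hi1 : ¬ p ∣ V.relIndex (T ⊓ X) := by
    intro h
    apply hi
    rw [← Subgroup.relIndex_mul_relIndex V (T ⊓ X) T hVY inf_le_left]
    exact dvd_mul_of_dvd_left h _
  have hV'Y : V.map (MulAut.conj x).toMonoidHom ≤ T ⊓ X := by
    rintro _ ⟨v, hv, rfl⟩
    exact mem_inf.2 ⟨hT.conj_mem v (hVT hv) x, mul_mem (mul_mem hx (hVX hv)) (inv_mem hx)⟩
  have hcard : Nat.card (V.map (MulAut.conj x).toMonoidHom) = Nat.card V :=
    (Nat.card_congr (V.equivMapOfInjective (MulAut.conj x).toMonoidHom (MulAut.conj x).injective).toEquiv).symm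
  have hi2 : ¬ p ∣ (V.map (MulAut.conj x).toMonoidHom).relIndex (T ⊓ X) := by
    have h1 := relIndex_mul_card' hVY
    have h2 := relIndex_mul_card' hV'Y
    rw [hcard, ← h1] at h2
    rw [Nat.eq_of_mul_eq_mul_right Nat.card_pos h2]
    exact hi1
  obtain ⟨y, hy, h⟩ := exists_conj_in hVY hV'Y hV (hV.map _) hi1 hi2
  refine ⟨y, hy, ?_⟩
  have key : V.map (MulAut.conj (y⁻¹ * x)).toMonoidHom = V := by
    have h1 : (MulAut.conj (y⁻¹ * x)).toMonoidHom = (MulAut.conj y⁻¹).toMonoidHom.comp (MulAut.conj x).toMonoidHom := by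
      ext z; simp [mul_assoc]
    have h2 : (MulAut.conj y⁻¹).toMonoidHom.comp (MulAut.conj y).toMonoidHom = MonoidHom.id G := by
      ext z; simp [mul_assoc]
    rw [h1, ← Subgroup.map_map, ← h, Subgroup.map_map, h2, Subgroup.map_id]
  rw [mem_normalizer_iff]
  intro v
  constructor
  · intro hv
    rw [← key]
    exact ⟨v, hv, rfl⟩
  · intro hv
    rw [← key] at hv
    obtain ⟨w, hw, h3⟩ := hv
    rwa [← (MulAut.conj (y⁻¹ * x)).injective h3]

omit hp in
/-- coprime indices: `H = K L` -/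
theorem exists_mul_of_coprime {H K L : Subgroup G} (hK : K ≤ H) (hL : L ≤ H)
    (h : (K.relIndex H).Coprime (L.relIndex H)) {x : G} (hx : x ∈ H) : ∃ k ∈ K, ∃ l ∈ L, x = k * l := by
  -- the orbit of `L` under `K` in `H / L`
  have h1 : L.relIndex H ∣ (L ⊓ K).relIndex K := by
    have h2 : (L ⊓ K).relIndex K * K.relIndex H = (L ⊓ K).relIndex H :=
      Subgroup.relIndex_mul_relIndex _ _ _ inf_le_right hK
    have h3 : (L ⊓ K).relIndex L * L.relIndex H = (L ⊓ K).relIndex H :=
      Subgroup.relIndex_mul_relIndex _ _ _ inf_le_left hL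
    have h4 : L.relIndex H ∣ (L ⊓ K).relIndex K * K.relIndex H := ⟨_, by rw [h2, ← h3, mul_comm]⟩
    exact h.symm.dvd_of_dvd_mul_right h4
  let f : K ⧸ (L.subgroupOf K) → H ⧸ (L.subgroupOf H) := Quotient.map' (fun k => ⟨k, hK k.2⟩) (by
    intro a b hab
    rw [QuotientGroup.leftRel_apply] at hab ⊢
    exact hab)
  have hf : Function.Injective f := by
    intro a b
    induction a using QuotientGroup.induction_on with
    | _ a =>
    induction b using QuotientGroup.induction_on with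
    | _ b =>
    intro hab
    have h5 : (QuotientGroup.mk (⟨(a : G), hK a.2⟩ : H) : H ⧸ (L.subgroupOf H)) = QuotientGroup.mk ⟨(b : G), hK b.2⟩ := hab
    rw [QuotientGroup.eq] at h5 ⊢
    exact h5
  have hcard : Nat.card (H ⧸ (L.subgroupOf H)) ≤ Nat.card (K ⧸ (L.subgroupOf K)) := by
    have h6 : Nat.card (K ⧸ (L.subgroupOf K)) = (L ⊓ K).relIndex K := by
      rw [Subgroup.inf_relIndex_right]
      rfl
    rw [h6]
    exact Nat.le_of_dvd (Nat.pos_of_ne_zero (by
      rw [← h6]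
      exact Nat.card_pos.ne')) h1
  have hfs : Function.Surjective f := by
    have h7 : Nat.card (K ⧸ (L.subgroupOf K)) = Nat.card (H ⧸ (L.subgroupOf H)) :=
      le_antisymm (Nat.card_le_card_of_injective f hf) hcard
    exact (Function.Injective.bijective_of_nat_card_le hf h7.ge).2
  obtain ⟨k, hk⟩ := hfs (QuotientGroup.mk ⟨x, hx⟩)
  induction k using QuotientGroup.induction_on with
  | _ k =>
  have h5 : (QuotientGroup.mk (⟨(k : G), hK k.2⟩ : H) : H ⧸ (L.subgroupOf H)) = QuotientGroup.mk ⟨x, hx⟩ := hk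
  rw [QuotientGroup.eq] at h5
  exact ⟨k, k.2, (k : G)⁻¹ * x, h5, by group⟩

omit hp in
/-- the index of `D ∩ S` in the normal subgroup `D` of `B` divides the index of `S` in `B` -/
theorem relIndex_dvd {B D S : Subgroup G} (hD : D ≤ B) (hDn : ∀ b ∈ B, ∀ d ∈ D, b * d * b⁻¹ ∈ D) :
    S.relIndex D ∣ S.relIndex B := by
  have hn : (D.subgroupOf B).Normal := by
    constructor
    intro d hd b
    rw [mem_subgroupOf] at hd ⊢
    exact hDn b b.2 d hd
  have h1 : (S.subgroupOf B).relIndex (D.subgroupOf B) ∣ (S.subgroupOf B).index := by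
    generalize D.subgroupOf B = D' at hn
    generalize S.subgroupOf B = S'
    have h2 : S'.relIndex D' = S'.relIndex (D' ⊔ S') := by
      have e1 : (S' ⊓ D').relIndex D' * D'.relIndex (D' ⊔ S') = (S' ⊓ D').relIndex (D' ⊔ S') :=
        Subgroup.relIndex_mul_relIndex _ _ _ inf_le_right le_sup_left
      have e2 : (S' ⊓ D').relIndex S' * S'.relIndex (D' ⊔ S') = (S' ⊓ D').relIndex (D' ⊔ S') :=
        Subgroup.relIndex_mul_relIndex _ _ _ inf_le_left le_sup_right
      rw [Subgroup.relIndex_sup_left, Subgroup.inf_relIndex_right] at e1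
      rw [Subgroup.inf_relIndex_left, ← e1, mul_comm] at e2
      have h0 : 0 < D'.relIndex S' := Nat.pos_of_ne_zero Subgroup.index_ne_zero_of_finite
      exact (Nat.eq_of_mul_eq_mul_right h0 e2).symm
    rw [h2]
    have hgoal := Subgroup.relIndex_mul_index (le_sup_right : S' ≤ D' ⊔ S')
    exact ⟨_, hgoal.symm⟩
  rwa [Subgroup.relIndex_subgroupOf hD] at h1

end Cfsg.Agent.H283.RkTwo
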