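import Cfsg.Agent.H283.RkTwo.Orb
import Cfsg.Agent.H967.SimpleIrr

/-!
# Simple groups with a split (B,N)-pair: subgroups containing the unipotent radical of a Borel subgroup

* `par` : `U ≤ Y`, `Y ⊔ B = ⊤` ⇒ `Y = ⊤`;
* `rank_two` : two parabolics `Y₁, Y₂` which generate `K`, whose intersection `D` acts on `Y₁ / D` and `Y₂ / D` with
  orbits of equal length outside the point `D`, `U` being transitive on each orbit: the rank is two.
-/

set_option autoImplicit false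

namespace Cfsg.Agent.H283.RkTwo

open Cfsg Cfsg.Agent.LieExceptional.BNPairCore Cfsg.Agent.Tits.Core Cfsg.Agent.Tits.Core.Bldg Cfsg.Agent.Tits.OfBN
  Cfsg.Agent.Schreier.BNSch Cfsg.Agent.Tits.OppRes Cfsg.Agent.FixBN Cfsg.Agent.FixBN.OfBN

variable {K : Type*} [Group K] {P : Cfsg.BNPair K} {p : ℕ} {U : Subgroup K}

/-- the fundamental chamber -/
def cc (P : Cfsg.BNPair K) : K ⧸ P.B := QuotientGroup.mk 1

theorem smul_cc {g : K} : g • cc P = cc P ↔ g ∈ P.B := by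
  unfold cc
  rw [smul_mk_eq, inv_one, one_mul, mul_one]

theorem smul_cc_eq {g h : K} : g • cc P = h • cc P ↔ g⁻¹ * h ∈ P.B := by
  unfold cc
  rw [smul_mk, smul_mk, mk_eq, mul_one, mul_one]

theorem exists_smul_cc (x : K ⧸ P.B) : ∃ g : K, g • cc P = x := by
  induction x using QuotientGroup.induction_on with
  | _ g => exact ⟨g, by unfold cc; rw [smul_mk, mul_one]⟩

theorem transU (S : Split P p U) {y z : K ⧸ P.B} (h : dist P (cc P) y = dist P (cc P) z) : ∃ u ∈ U, u • y = z := by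
  obtain ⟨u, hu, h1⟩ := OfBN.trans S h
  refine ⟨u, ?_, h1⟩
  have := (mem_UU S).1 hu
  simpa using this

theorem U_ne_bot (S : Split P p U) (hS : P.S.Nonempty) : U ≠ ⊥ := by
  obtain ⟨s, hs⟩ := hS
  obtain ⟨V, hV⟩ := S.node s hs
  obtain ⟨u, hu, huV⟩ := hV.ne
  intro h
  rw [h, Subgroup.mem_bot] at hu
  subst hu
  exact huV (one_mem V)

section

variable [hN : ((P.B ⊓ P.N).subgroupOf P.N).Normal] [Finite K]
variable {I : Type*} {M : CoxeterMatrix I} (e : I ≃ P.S) (cs : CoxeterSystem M (WP P))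
  (hcs : ∀ i, cs.simple i = QuotientGroup.mk (⟨(e i : K), P.subset (e i).2⟩ : P.N))
variable (S : Split P p U)

include e cs hcs S in
theorem par_aux [IsSimpleGroup K] (hU : U ≠ ⊥) {Y : Subgroup K} (hUY : U ≤ Y) (h : Y ⊔ P.B = ⊤) : Y = ⊤ := by
  have hI : Finite I := finite_I e
  have hC : Cox cs := inferInstance
  set Δ := bldg P e cs hcs with hΔ
  have hiso : ∀ (g : K) (a b : K ⧸ P.B), Δ.δ (g • a) (g • b) = Δ.δ a b := fun g a b => dist_smul P g a b
  have hth : Δ.Thick := thick P e cs hcs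
  have htr : ∀ y z, Δ.δ (cc P) y = Δ.δ (cc P) z → ∃ u ∈ U, u • y = z := fun y z h => transU S h
  have h1 : Y ≤ QJ Δ hiso (cc P) (JY Δ (cc P) Y) := le_QJ hiso hUY htr hth
  have h2 : P.B ≤ QJ Δ hiso (cc P) (JY Δ (cc P) Y) := fun b hb => stab_le_QJ hiso _ _ (smul_cc.2 hb)
  have h3 : QJ Δ hiso (cc P) (JY Δ (cc P) Y) = ⊤ := top_le_iff.1 (h ▸ sup_le h1 h2)
  have h4 : ∀ g : K, ∃ y ∈ Y, y⁻¹ * g ∈ P.B := by
    intro g
    have h5 : g ∈ QJ Δ hiso (cc P) (JY Δ (cc P) Y) := by rw [h3]; trivial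
    obtain ⟨y, hy, h6⟩ := mem_orb hiso hUY htr ((mem_QJ hiso _ _).1 h5)
    exact ⟨y, hy, smul_cc_eq.1 h6⟩
  have h5 : Subgroup.normalClosure (U : Set K) ≤ Y := by
    rw [Subgroup.normalClosure, Subgroup.closure_le]
    intro x hx
    obtain ⟨u, hu, hx⟩ := Group.mem_conjugatesOfSet_iff.1 hx
    obtain ⟨g, rfl⟩ := isConj_iff.1 hx
    obtain ⟨y, hy, hb⟩ := h4 g
    have h6 := S.norm _ hb u hu
    have h7 : g * u * g⁻¹ = y * (y⁻¹ * g * u * (y⁻¹ * g)⁻¹) * y⁻¹ := by group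
    rw [h7]
    exact mul_mem (mul_mem hy (hUY h6)) (inv_mem hy)
  rcases (Subgroup.normalClosure_normal (s := (U : Set K))).eq_bot_or_eq_top with h6 | h6
  · exfalso
    apply hU
    rw [eq_bot_iff, ← h6]
    exact Subgroup.le_normalClosure
  · exact top_le_iff.1 (h6 ▸ h5)

end

/-- **A subgroup which contains `U` and generates `K` with `B` is `K`.** -/
theorem par [Finite K] [IsSimpleGroup K] (S : Split P p U) (hS : P.S.Nonempty) {Y : Subgroup K} (hUY : U ≤ Y)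
    (h : Y ⊔ P.B = ⊤) : Y = ⊤ := by
  have hN : ((P.B ⊓ P.N).subgroupOf P.N).Normal := Cfsg.Agent.Tits.OfBN.normal_subgroupOf P
  obtain ⟨M, cs, hcs⟩ := Cfsg.Agent.S0320.result P
  exact par_aux (Equiv.refl P.S) cs hcs S (U_ne_bot S hS) hUY h

/-- The data on a parabolic `Y` above `D`. -/
structure Orbs (U D Y : Subgroup K) : Prop where
  le : D ≤ Y
  ne : D ≠ Y
  tr : ∀ t ∈ Y, t ∉ D → ∀ d ∈ D, ∃ u ∈ U, (u * t)⁻¹ * (d * t) ∈ D
  eq : ∀ t ∈ Y, t ∉ D → ∀ t' ∈ Y, t' ∉ D →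
    (D ⊓ D.map (MulAut.conj t).toMonoidHom).relIndex D = (D ⊓ D.map (MulAut.conj t').toMonoidHom).relIndex D

section

variable [hN : ((P.B ⊓ P.N).subgroupOf P.N).Normal] [Finite K]
variable {I : Type*} {M : CoxeterMatrix I} (e : I ≃ P.S) (cs : CoxeterSystem M (WP P))
  (hcs : ∀ i, cs.simple i = QuotientGroup.mk (⟨(e i : K), P.subset (e i).2⟩ : P.N))
variable (S : Split P p U) {D Y : Subgroup K}

include S in
/-- step 4: the simple reflections outside of the type of `D` commute with those inside -/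
theorem comm_step (hBD : P.B ≤ D) (h : Orbs U D Y) {i j : I} (hi : i ∈ JY (bldg P e cs hcs) (cc P) D)
    (hj : j ∈ JY (bldg P e cs hcs) (cc P) Y) (hj' : j ∉ JY (bldg P e cs hcs) (cc P) D) :
    cs.simple i * cs.simple j = cs.simple j * cs.simple i := by
  have hI : Finite I := finite_I e
  have hC : Cox cs := inferInstance
  set Δ := bldg P e cs hcs with hΔ
  have hiso : ∀ (g : K) (a b : K ⧸ P.B), Δ.δ (g • a) (g • b) = Δ.δ a b := fun g a b => dist_smul P g a b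
  have hth : Δ.Thick := thick P e cs hcs
  have htr : ∀ y z, Δ.δ (cc P) y = Δ.δ (cc P) z → ∃ u ∈ U, u • y = z := fun y z h => transU S h
  have hUD : U ≤ D := S.le.trans hBD
  have hij : i ≠ j := by
    rintro rfl
    exact hj' hi
  obtain ⟨t, ht, h1⟩ := hj
  have htD : t ∉ D := fun h' => hj' ⟨t, h', h1⟩
  obtain ⟨d, hd, h2⟩ := id hi
  obtain ⟨u, hu, h3⟩ := h.tr t ht htD d hd
  have h4 : Δ.δ (cc P) ((d * t) • cc P) = cs.simple i * cs.simple j := by
    have h5 : Δ.δ (d • cc P) ((d * t) • cc P) = cs.simple j := by rw [mul_smul, hiso, h1]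
    have h6 := Δ.step_lt (cc P) (d • cc P) ((d * t) • cc P) j h5 (by rw [h2]; exact length_lt hij)
    rw [h6, h2]
  have h5 : Δ.δ (cc P) ((u * t) • cc P) = cs.simple j := by
    have h6 : u • cc P = cc P := smul_cc.2 (S.le hu)
    rw [mul_smul]
    calc Δ.δ (cc P) (u • t • cc P) = Δ.δ (u • cc P) (u • t • cc P) := by rw [h6]
      _ = _ := by rw [hiso, h1]
  have h6 : Δ.δ ((u * t) • cc P) ((d * t) • cc P) ∈ WJ cs (JY Δ (cc P) D) := by
    have h7 := delta_mem hiso hUD htr hth h3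
    rwa [mul_smul, delta_inv_smul hiso] at h7
  have h7 := delta_coset (cc P) h6
  rw [h5, h4, cs.inv_simple, ← mul_assoc] at h7
  exact comm_of_mem hi hj' h7

/-- the chambers at distance `w` -/
def Sph (Δ : Bldg cs (K ⧸ P.B)) (w : WP P) : Set (K ⧸ P.B) := {z | Δ.δ (cc P) z = w}

include S in
/-- the number of chambers at given distance is the length of an orbit of `B` -/
theorem card_sph (t : K) : Nat.card (Sph cs (bldg P e cs hcs) ((bldg P e cs hcs).δ (cc P) (t • cc P))) =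
    (P.B ⊓ P.B.map (MulAut.conj t).toMonoidHom).relIndex P.B := by
  set Δ := bldg P e cs hcs with hΔ
  have hiso : ∀ (g : K) (a b : K ⧸ P.B), Δ.δ (g • a) (g • b) = Δ.δ a b := fun g a b => dist_smul P g a b
  have htr : ∀ y z, Δ.δ (cc P) y = Δ.δ (cc P) z → ∃ u ∈ U, u • y = z := fun y z h => transU S h
  have h1 : Sph cs Δ (Δ.δ (cc P) (t • cc P)) = MulAction.orbit P.B (t • cc P) := by
    ext z
    constructor
    · intro hz
      obtain ⟨u, hu, h2⟩ := htr (t • cc P) z (Eq.symm hz)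
      exact ⟨⟨u, S.le hu⟩, h2⟩
    · rintro ⟨⟨b, hb⟩, rfl⟩
      show Δ.δ (cc P) (b • t • cc P) = Δ.δ (cc P) (t • cc P)
      have h6 : b • cc P = cc P := smul_cc.2 hb
      calc Δ.δ (cc P) (b • t • cc P) = Δ.δ (b • cc P) (b • t • cc P) := by rw [h6]
        _ = _ := by rw [hiso]
  rw [h1, Nat.card_coe_set_eq, ← MulAction.index_stabilizer]
  have h2 : MulAction.stabilizer P.B (t • cc P) = (P.B ⊓ P.B.map (MulAut.conj t).toMonoidHom).subgroupOf P.B := by
    ext ⟨b, hb⟩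
    rw [MulAction.mem_stabilizer_iff, Subgroup.mem_subgroupOf, Subgroup.mem_inf]
    change b • t • cc P = t • cc P ↔ b ∈ P.B ∧ b ∈ P.B.map (MulAut.conj t).toMonoidHom
    rw [Subgroup.mem_map_equiv, MulAut.conj_symm_apply, ← mul_smul, eq_comm, smul_cc_eq]
    have h3 : t⁻¹ * (b * t) = t⁻¹ * b * t := by group
    rw [h3]
    exact ⟨fun h => ⟨hb, h⟩, fun h => h.2⟩
  rw [h2]
  rfl

include S in
/-- step 5: at most one node -/
theorem subsingleton_step (h : Orbs U P.B Y) : (JY (bldg P e cs hcs) (cc P) Y).Subsingleton := by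
  have hI : Finite I := finite_I e
  have hC : Cox cs := inferInstance
  intro i hi j hj
  by_contra hij
  set Δ := bldg P e cs hcs with hΔ
  have hiso : ∀ (g : K) (a b : K ⧸ P.B), Δ.δ (g • a) (g • b) = Δ.δ a b := fun g a b => dist_smul P g a b
  have hth : Δ.Thick := thick P e cs hcs
  have htr : ∀ y z, Δ.δ (cc P) y = Δ.δ (cc P) z → ∃ u ∈ U, u • y = z := fun y z h => transU S h
  have hUY : U ≤ Y := S.le.trans h.le
  have hlt := length_lt (cs := cs) hij
  obtain ⟨t, ht, h1⟩ := id hi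
  have hw : cs.simple i * cs.simple j ∈ WJ cs (JY Δ (cc P) Y) := mul_mem (simple_mem_WJ hi) (simple_mem_WJ hj)
  obtain ⟨z, hz⟩ := exists_delta Δ (cc P) (cs.simple i * cs.simple j)
  obtain ⟨t', ht', h2⟩ := mem_orb hiso hUY htr (z := z) (by rw [hz]; exact hw)
  rw [← h2] at hz
  have hne1 : t ∉ P.B := by
    intro h'
    rw [smul_cc.2 h', delta_self] at h1
    have := cs.length_simple i
    rw [← h1, cs.length_one] at this
    exact absurd this (by norm_num)
  have hne2 : t' ∉ P.B := by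
    intro h'
    rw [smul_cc.2 h', delta_self] at hz
    rw [← hz, cs.length_one] at hlt
    exact absurd hlt (Nat.not_lt_zero _)
  have h3 := h.eq t ht hne1 t' ht' hne2
  rw [← card_sph e cs hcs S, ← card_sph e cs hcs S, ← hΔ, h1, hz] at h3
  -- two chambers for each one
  have hch : ∀ x : Sph cs Δ (cs.simple i), ∃ a b : K ⧸ P.B, a ≠ b ∧ Δ.δ x a = cs.simple j ∧ Δ.δ x b = cs.simple j :=
    fun x => hth x j
  choose a b hab ha hb using hch
  have hmem : ∀ (x : Sph cs Δ (cs.simple i)) (y : K ⧸ P.B), Δ.δ x y = cs.simple j →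
      Δ.δ (cc P) y = cs.simple i * cs.simple j := by
    intro x y hy
    have hx : Δ.δ (cc P) x = cs.simple i := x.2
    rw [Δ.step_lt (cc P) x y j hy (by rw [hx]; exact hlt), hx]
  have huniq : ∀ (x x' : Sph cs Δ (cs.simple i)) (y : K ⧸ P.B), Δ.δ x y = cs.simple j → Δ.δ x' y = cs.simple j →
      x = x' := by
    intro x x' y hy hy'
    apply Subtype.ext
    refine Tits.Rigid.eq_of_short (Δ := Δ) (x := cc P) (w := cs.simple i) (j := j) x.2 x'.2 hlt ?_
    refine Tits.Rigid.mem_Pan_Res ?_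
    refine Δ.mem_Pan_trans (y := y) (Or.inr hy) ?_
    exact Δ.mem_Pan_symm (Or.inr hy')
  let f : Sph cs Δ (cs.simple i) × Bool → Sph cs Δ (cs.simple i * cs.simple j) := fun q =>
    if q.2 then ⟨a q.1, hmem _ _ (ha q.1)⟩ else ⟨b q.1, hmem _ _ (hb q.1)⟩
  have hf : Function.Injective f := by
    rintro ⟨x, s⟩ ⟨x', s'⟩ hxx
    have hval := congrArg (fun q : Sph cs Δ (cs.simple i * cs.simple j) => (q : K ⧸ P.B)) hxx
    cases s <;> cases s' <;> simp only [f, if_true, Bool.false_eq_true, if_false] at hval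
    · have := huniq x x' (b x) (hb x) (by rw [hval]; exact hb x')
      rw [this]
    · have h5 := huniq x x' (b x) (hb x) (by rw [hval]; exact ha x')
      subst h5
      exact absurd hval.symm (hab x)
    · have h5 := huniq x x' (a x) (ha x) (by rw [hval]; exact hb x')
      subst h5
      exact absurd hval (hab x)
    · have := huniq x x' (a x) (ha x) (by rw [hval]; exact ha x')
      rw [this]
  have hc := Nat.card_le_card_of_injective f hf
  rw [Nat.card_prod, ← h3] at hc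
  have hb2 : Nat.card Bool = 2 := by simp
  have hpos : 0 < Nat.card (Sph cs Δ (cs.simple i)) := by
    have : Nonempty (Sph cs Δ (cs.simple i)) := ⟨⟨t • cc P, h1⟩⟩
    exact Nat.card_pos
  rw [hb2] at hc
  omega

end

/-- **The rank is two.** -/
theorem rank_two [Finite K] [IsSimpleGroup K] (S : Split P p U) {D Y₁ Y₂ : Subgroup K} (hBD : P.B ≤ D)
    (h1 : Orbs U D Y₁) (h2 : Orbs U D Y₂) (hinf : Y₁ ⊓ Y₂ = D) (hsup : Y₁ ⊔ Y₂ = ⊤) : P.rank = 2 := by
  have hN : ((P.B ⊓ P.N).subgroupOf P.N).Normal := Cfsg.Agent.Tits.OfBN.normal_subgroupOf P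
  obtain ⟨M, cs, hcs⟩ := Cfsg.Agent.S0320.result P
  set e : P.S ≃ P.S := Equiv.refl P.S with he
  have hI : Finite P.S := finite_I e
  have hC : Cox cs := inferInstance
  set Δ := bldg P e cs hcs with hΔ
  have hiso : ∀ (g : K) (a b : K ⧸ P.B), Δ.δ (g • a) (g • b) = Δ.δ a b := fun g a b => dist_smul P g a b
  have hth : Δ.Thick := thick P e cs hcs
  have htr : ∀ y z, Δ.δ (cc P) y = Δ.δ (cc P) z → ∃ u ∈ U, u • y = z := fun y z h => transU S h
  set J₁ := JY Δ (cc P) Y₁ with hJ₁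
  set J₂ := JY Δ (cc P) Y₂ with hJ₂
  set A := JY Δ (cc P) D with hA
  have hD1 := h1.le
  have hD2 := h2.le
  have hUD : U ≤ D := S.le.trans hBD
  have hst : ∀ g : K, g • cc P = cc P → g ∈ D := fun g hg => hBD (smul_cc.1 hg)
  have e1 : Y₁ = QJ Δ hiso (cc P) J₁ := eq_QJ hiso (hUD.trans hD1) htr hth fun g hg => hD1 (hst g hg)
  have e2 : Y₂ = QJ Δ hiso (cc P) J₂ := eq_QJ hiso (hUD.trans hD2) htr hth fun g hg => hD2 (hst g hg)
  have e0 : D = QJ Δ hiso (cc P) A := eq_QJ hiso hUD htr hth hst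
  -- `J₁ ∪ J₂` is everything
  have hun : ∀ i, i ∈ J₁ ∨ i ∈ J₂ := by
    intro i
    by_contra hcon
    push Not at hcon
    have h3 : Y₁ ⊔ Y₂ ≤ QJ Δ hiso (cc P) ({i}ᶜ : Set P.S) := by
      refine sup_le ?_ ?_
      · rw [e1]
        intro g hg
        exact WJ_mono (fun k hk => by rintro rfl; exact hcon.1 hk) hg
      · rw [e2]
        intro g hg
        exact WJ_mono (fun k hk => by rintro rfl; exact hcon.2 hk) hg
    rw [hsup] at h3
    obtain ⟨z, hz⟩ := exists_delta Δ (cc P) (cs.simple i)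
    obtain ⟨g, rfl⟩ := exists_smul_cc z
    have h4 : g ∈ QJ Δ hiso (cc P) ({i}ᶜ : Set P.S) := h3 (Subgroup.mem_top g)
    rw [mem_QJ, hz] at h4
    exact mem_of_simple_mem h4 rfl
  -- `J₁ ∩ J₂ = A`
  have hint : ∀ i, i ∈ J₁ → i ∈ J₂ → i ∈ A := by
    intro i hi1 hi2
    obtain ⟨t, ht, h3⟩ := hi1
    have h4 : t ∈ Y₂ := by
      rw [e2, mem_QJ, h3]
      exact simple_mem_WJ hi2
    exact ⟨t, hinf ▸ Subgroup.mem_inf.2 ⟨ht, h4⟩, h3⟩
  have hA1 : A ⊆ J₁ := JY_mono Δ _ hD1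
  have hA2 : A ⊆ J₂ := JY_mono Δ _ hD2
  have hex : ∀ {Y : Subgroup K} {J : Set P.S}, Y = QJ Δ hiso (cc P) J → A ⊆ J → D ≠ Y → ∃ j ∈ J, j ∉ A := by
    intro Y J hY hAJ hne
    by_contra hcon
    push Not at hcon
    apply hne
    rw [hY, e0, Set.Subset.antisymm hAJ hcon]
  obtain ⟨j₁, hj₁, hj₁'⟩ := hex e1 hA1 h1.ne
  obtain ⟨j₂, hj₂, hj₂'⟩ := hex e2 hA2 h2.ne
  -- `A` is empty
  have hAe : A = ∅ := by
    by_contra hne
    obtain ⟨i₀, hi₀⟩ := Set.nonempty_iff_ne_empty.2 hne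
    have hirr := Cfsg.Agent.H967.SimpleIrr.irreducible S
    obtain ⟨s, hs, s', hs', h3⟩ := hirr ((fun i : P.S => (i : K)) '' A) (by rintro _ ⟨i, -, rfl⟩; exact i.2)
      ⟨_, i₀, hi₀, rfl⟩ ⟨j₁, j₁.2, by
        rintro ⟨k, hk, hk'⟩
        rw [Subtype.ext hk'] at hk
        exact hj₁' hk⟩
    obtain ⟨i, hi, rfl⟩ := hs
    have hj : (⟨s', hs'.1⟩ : P.S) ∉ A := fun h' => hs'.2 ⟨_, h', rfl⟩
    have hc : cs.simple i * cs.simple ⟨s', hs'.1⟩ = cs.simple ⟨s', hs'.1⟩ * cs.simple i := by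
      rcases hun ⟨s', hs'.1⟩ with h4 | h4
      · exact comm_step e cs hcs S hBD h1 hi h4 hj
      · exact comm_step e cs hcs S hBD h2 hi h4 hj
    apply h3
    rw [hcs, hcs, ← QuotientGroup.mk_mul, ← QuotientGroup.mk_mul, mk_eq_iff] at hc
    change ((i : K) * s')⁻¹ * (s' * i) ∈ P.B at hc
    have hi' := P.subset i.2
    have hj' := P.subset hs'.1
    have hBN : ((i : K) * s')⁻¹ * (s' * i) ∈ P.B ⊓ P.N :=
      Subgroup.mem_inf.2 ⟨hc, mul_mem (inv_mem (mul_mem hi' hj')) (mul_mem hj' hi')⟩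
    have h5 := P.conj_mem (s' * i) (mul_mem hj' hi') _ hBN
    have h6 : s' * (i : K) * (((i : K) * s')⁻¹ * (s' * i)) * (s' * i)⁻¹ = ((i : K) * s' * (i : K)⁻¹ * s'⁻¹)⁻¹ := by
      group
    rw [h6] at h5
    have h7 := inv_mem h5
    rwa [inv_inv] at h7
  have hDB : D = P.B := by
    refine le_antisymm (fun g hg => ?_) hBD
    rw [e0, hAe, mem_QJ] at hg
    have h3 : Δ.δ (cc P) (g • cc P) = 1 := by
      have h4 : WJ cs (∅ : Set P.S) = ⊥ := by unfold WJ; rw [Set.image_empty, Subgroup.closure_empty]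
      rwa [h4, Subgroup.mem_bot] at hg
    exact smul_cc.1 ((Δ.eq_one _ _).1 h3).symm
  subst hDB
  have hs1 := subsingleton_step e cs hcs S h1
  have hs2 := subsingleton_step e cs hcs S h2
  have hne : j₁ ≠ j₂ := by
    rintro rfl
    exact hj₁' (hint _ hj₁ hj₂)
  show Nat.card P.S = 2
  rw [Nat.card_eq_two_iff]
  refine ⟨j₁, j₂, hne, ?_⟩
  rw [Set.eq_univ_iff_forall]
  intro k
  rcases hun k with h3 | h3
  · rw [hs1 h3 hj₁]; simp
  · rw [hs2 h3 hj₂]; simp

end Cfsg.Agent.H283.RkTwo
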