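import Cfsg.Agent.H283.RkTwo.PPow
import Cfsg.Agent.S0312
import Cfsg.Agent.S0313

/-!
# There is no normal subgroup of order prime to `p`

`G` with an irreducible (B,N)-pair of rank two, `B` core-free, parameters powers of `p`.

`noPprime` : a nontrivial normal subgroup has order divisible by `p`.
-/

set_option autoImplicit false

namespace Cfsg.Agent.H283.RkTwo

open Subgroup Cfsg Cfsg.Agent.LieExceptional.BNPairCore Cfsg.Agent.Tits.Core Cfsg.Agent.Tits.Core.Bldg
  Cfsg.Agent.Tits.OfBN Cfsg.Agent.Schreier.BNSch Cfsg.Agent.Tits.OppRes Cfsg.Agent.FixBN Cfsg.Agent.FixBN.OfBN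

section

variable {G : Type*} [Group G] [Finite G]

/-- `X = H B` : the indices of `B` in `X` and in `H` -/
theorem relIndex_eq_of_mul {B H X : Subgroup G} (hH : H ≤ X) (h : ∀ x ∈ X, ∃ g ∈ H, g⁻¹ * x ∈ B) :
    B.relIndex H = B.relIndex X := by
  let f : H ⧸ (B.subgroupOf H) → X ⧸ (B.subgroupOf X) := Quotient.map' (fun k => ⟨k, hH k.2⟩) (by
    intro a b hab
    rw [QuotientGroup.leftRel_apply] at hab ⊢
    exact hab)
  refine Nat.card_eq_of_bijective f ⟨?_, ?_⟩
  · intro a b
    induction a using QuotientGroup.induction_on with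
    | _ a =>
    induction b using QuotientGroup.induction_on with
    | _ b =>
    intro hab
    have h5 : (QuotientGroup.mk (⟨(a : G), hH a.2⟩ : X) : X ⧸ (B.subgroupOf X)) = QuotientGroup.mk ⟨(b : G), hH b.2⟩ := hab
    rw [QuotientGroup.eq] at h5 ⊢
    exact h5
  · intro x
    induction x using QuotientGroup.induction_on with
    | _ x =>
    obtain ⟨g, hg, h1⟩ := h x x.2
    refine ⟨QuotientGroup.mk ⟨g, hg⟩, ?_⟩
    show (QuotientGroup.mk (⟨g, hH hg⟩ : X) : X ⧸ (B.subgroupOf X)) = QuotientGroup.mk x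
    rw [QuotientGroup.eq]
    exact h1

/-- `X = H B`, `B ≤ X` : `|X : H| = |B : B ∩ H|` -/
theorem relIndex_eq_of_mul' {B H X : Subgroup G} (hH : H ≤ X) (hB : B ≤ X) (h : ∀ x ∈ X, ∃ g ∈ H, g⁻¹ * x ∈ B) :
    H.relIndex X = (B ⊓ H).relIndex B := by
  have h1 := relIndex_eq_of_mul hH h
  have e1 : (B ⊓ H).relIndex B * B.relIndex X = (B ⊓ H).relIndex X := Subgroup.relIndex_mul_relIndex _ _ _ inf_le_left hB
  have e2 : (B ⊓ H).relIndex H * H.relIndex X = (B ⊓ H).relIndex X := Subgroup.relIndex_mul_relIndex _ _ _ inf_le_right hH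
  have e3 : (B ⊓ H).relIndex H = B.relIndex X := by rw [Subgroup.inf_relIndex_right, h1]
  rw [e3, ← e1, mul_comm] at e2
  have h0 : 0 < B.relIndex X := Nat.pos_of_ne_zero Subgroup.index_ne_zero_of_finite
  exact Nat.eq_of_mul_eq_mul_right h0 e2

end

variable {G : Type*} [Group G] [Finite G] (P : Cfsg.BNPair G) {p : ℕ} [hp : Fact p.Prime]

/-- a normal subgroup of `B` of order prime to `p` is trivial -/
theorem eq_bot_of_coprime (hcore : P.B.normalCore = ⊥) (hq : ParamPow P p) {D : Subgroup G} (hD : D ≤ P.B)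
    (hDn : ∀ b ∈ P.B, ∀ d ∈ D, b * d * b⁻¹ ∈ D) (h : ¬ p ∣ Nat.card D) : D = ⊥ := by
  rw [eq_bot_iff, ← hcore]
  intro d hd g
  obtain ⟨a, ha⟩ := relIndex_pow P hq g⁻¹
  have h1 := relIndex_dvd (S := P.B ⊓ P.B.map (MulAut.conj g⁻¹).toMonoidHom) hD hDn
  rw [ha] at h1
  obtain ⟨c, -, hc⟩ := (Nat.dvd_prime_pow hp.1).1 h1
  have h2 : (P.B ⊓ P.B.map (MulAut.conj g⁻¹).toMonoidHom).relIndex D ∣ Nat.card D := Subgroup.index_dvd_card _
  have h3 : c = 0 := by
    by_contra hc0
    rw [hc] at h2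
    exact h ((dvd_pow_self p hc0).trans h2)
  rw [h3, pow_zero, Subgroup.relIndex_eq_one] at hc
  have h4 := (mem_inf.1 (hc hd)).2
  rw [mem_map_equiv, MulAut.conj_symm_apply, inv_inv] at h4
  exact h4

theorem mem_parabolic_iff_dist {s : G} (hs : s ∈ P.S) {g : G} :
    g ∈ P.parabolic {s} ↔ g ∈ P.B ∨ g ∈ C P s := by
  constructor
  · intro h
    rcases mem_parabolic_singleton P hs h with h | ⟨a, ha, b, hb, rfl⟩
    · exact Or.inl h
    · exact Or.inr (mem_C.2 ⟨a, ha, b, hb, rfl⟩)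
  · rintro (h | h)
    · exact B_le_parabolic P _ h
    · exact mem_of_mem_C' (B_le_parabolic P _) h (mem_parabolic_self P s)

section

variable [hN : ((P.B ⊓ P.N).subgroupOf P.N).Normal]
variable {M : CoxeterMatrix P.S} (cs : CoxeterSystem M (WP P))
  (hcs : ∀ i, cs.simple i = QuotientGroup.mk (⟨((Equiv.refl P.S) i : G), P.subset ((Equiv.refl P.S) i).2⟩ : P.N))

theorem mem_parabolic_iff_delta {i : P.S} {g : G} :
    g ∈ P.parabolic {(i : G)} ↔ (bldg P (Equiv.refl P.S) cs hcs).δ (cc P) (g • cc P) = 1 ∨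
      (bldg P (Equiv.refl P.S) cs hcs).δ (cc P) (g • cc P) = cs.simple i := by
  have h1 : (bldg P (Equiv.refl P.S) cs hcs).δ (cc P) (g • cc P) = wt P g := dist_cc P g
  rw [mem_parabolic_iff_dist P i.2, h1]
  refine or_congr ?_ ?_
  · have h2 : (1 : WP P) = QuotientGroup.mk (1 : P.N) := rfl
    rw [h2, wt_eq_iff]
    exact mem_C_one.symm
  · rw [hcs, wt_eq_iff]
    rfl

variable {i j : P.S} {n : G}

include hcs in
/-- the parabolic subgroup `P_i` is transitive on the chambers of the residue, through the stabiliser of the opposite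
residue -/
theorem exists_mul_opp (hij : w0 cs * cs.simple j = cs.simple i * w0 cs)
    (hn : (bldg P (Equiv.refl P.S) cs hcs).δ (cc P) (n • cc P) = w0 cs) {x : G} (hx : x ∈ P.parabolic {(i : G)}) :
    ∃ g ∈ P.parabolic {(i : G)} ⊓ (P.parabolic {(j : G)}).map (MulAut.conj n).toMonoidHom, g⁻¹ * x ∈ P.B := by
  have hI : Finite P.S := finite_I (Equiv.refl P.S)
  have hC : Cox cs := inferInstance
  set Δ := bldg P (Equiv.refl P.S) cs hcs with hΔ
  have hiso : ∀ (g : G) (a b : G ⧸ P.B), Δ.δ (g • a) (g • b) = Δ.δ a b := fun g a b => dist_smul P g a b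
  rw [mem_parabolic_iff_delta P cs hcs, ← hΔ] at hx
  -- a chamber `d` of the `j`-panel of `n c` opposite to `x c`
  obtain ⟨d, hd1, hd2⟩ : ∃ d, (Δ.δ (n • cc P) d = 1 ∨ Δ.δ (n • cc P) d = cs.simple j) ∧ Δ.δ (x • cc P) d = w0 cs := by
    rcases hx with hx | hx
    · have h1 : cc P = x • cc P := (Δ.eq_one _ _).1 hx
      exact ⟨n • cc P, Or.inl (delta_self _), by rw [← h1, hn]⟩
    · have h1 : Δ.δ (n • cc P) (cc P) = w0 cs := by rw [Δ.symm (cc P) (n • cc P), hn, hC.w0_inv]
      rcases Δ.step (n • cc P) (cc P) (x • cc P) i hx with h2 | h2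
      · have h3 : Δ.δ (x • cc P) (n • cc P) = w0 cs * cs.simple j := by
          rw [Δ.symm (n • cc P) (x • cc P), h2, h1, mul_inv_rev, cs.inv_simple, hC.w0_inv, hij]
        obtain ⟨d, hd1, hd2⟩ := Δ.exists_step (x • cc P) (n • cc P) j
        exact ⟨d, Or.inr hd1, by rw [hd2, h3, mul_assoc, cs.simple_mul_simple_self, mul_one]⟩
      · exact ⟨n • cc P, Or.inl (delta_self _), by
          rw [Δ.symm (n • cc P) (x • cc P), h2, h1, hC.w0_inv]⟩
  obtain ⟨g, hg1, hg2⟩ := Cfsg.Agent.Tits.OfBN.trans P (cc P) (n • cc P) (x • cc P) d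
    (show Δ.δ (cc P) (n • cc P) = Δ.δ (x • cc P) d by rw [hn, hd2])
  refine ⟨g, mem_inf.2 ⟨?_, ?_⟩, smul_cc_eq.1 hg1⟩
  · rw [mem_parabolic_iff_delta P cs hcs, ← hΔ, hg1]
    exact hx
  · rw [mem_map_equiv, MulAut.conj_symm_apply, mem_parabolic_iff_delta P cs hcs, ← hΔ]
    have h4 : (n⁻¹ * g * n) • cc P = n⁻¹ • d := by rw [mul_smul, mul_smul, hg2]
    rw [h4, delta_inv_smul hiso]
    exact hd1

include hcs in
/-- `|P_i : P_i ∩ n P_j n⁻¹|` is a power of `p` -/
theorem relIndex_opp (hq : ParamPow P p) (hij : w0 cs * cs.simple j = cs.simple i * w0 cs)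
    (hn : (bldg P (Equiv.refl P.S) cs hcs).δ (cc P) (n • cc P) = w0 cs) :
    ∃ a, (P.parabolic {(i : G)} ⊓ (P.parabolic {(j : G)}).map (MulAut.conj n).toMonoidHom).relIndex
      (P.parabolic {(i : G)}) = p ^ a := by
  set H := P.parabolic {(i : G)} ⊓ (P.parabolic {(j : G)}).map (MulAut.conj n).toMonoidHom with hH
  have h1 : H.relIndex (P.parabolic {(i : G)}) = (P.B ⊓ H).relIndex P.B :=
    relIndex_eq_of_mul' inf_le_left (B_le_parabolic P _) fun x hx => exists_mul_opp P cs hcs hij hn hx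
  obtain ⟨a, ha⟩ := relIndex_pow P hq n
  have h2 : P.B ⊓ P.B.map (MulAut.conj n).toMonoidHom ≤ P.B ⊓ H :=
    le_inf inf_le_left (le_inf (inf_le_left.trans (B_le_parabolic P _))
      (inf_le_right.trans (Subgroup.map_mono (B_le_parabolic P _))))
  have h3 := Subgroup.relIndex_dvd_of_le_left P.B h2
  rw [ha] at h3
  obtain ⟨c, -, hc⟩ := (Nat.dvd_prime_pow hp.1).1 h3
  exact ⟨c, h1.trans hc⟩

include hcs in
/-- `T ⊓ P_i` is conjugate into `T ⊓ P_j` -/
theorem le_opp (hq : ParamPow P p) (hij : w0 cs * cs.simple j = cs.simple i * w0 cs)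
    (hn : (bldg P (Equiv.refl P.S) cs hcs).δ (cc P) (n • cc P) = w0 cs) {T : Subgroup G} [hT : T.Normal]
    (hTp : ¬ p ∣ Nat.card T) :
    (T ⊓ P.parabolic {(i : G)}).map (MulAut.conj n⁻¹).toMonoidHom ≤ T ⊓ P.parabolic {(j : G)} := by
  obtain ⟨a, ha⟩ := relIndex_opp P cs hcs hq hij hn
  set X := P.parabolic {(i : G)} with hX
  set H := X ⊓ (P.parabolic {(j : G)}).map (MulAut.conj n).toMonoidHom with hH
  have hn' : ∀ b ∈ X, ∀ d ∈ T ⊓ X, b * d * b⁻¹ ∈ T ⊓ X := fun b hb d hd =>
    mem_inf.2 ⟨hT.conj_mem d (mem_inf.1 hd).1 b, mul_mem (mul_mem hb (mem_inf.1 hd).2) (inv_mem hb)⟩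
  have h1 := relIndex_dvd (S := H) (inf_le_right : T ⊓ X ≤ X) hn'
  rw [ha] at h1
  obtain ⟨c, -, hc⟩ := (Nat.dvd_prime_pow hp.1).1 h1
  have h2 : H.relIndex (T ⊓ X) ∣ Nat.card ↥(T ⊓ X) := Subgroup.index_dvd_card _
  have h3 : c = 0 := by
    by_contra hc0
    rw [hc] at h2
    exact hTp (((dvd_pow_self p hc0).trans h2).trans (Subgroup.card_dvd_of_le inf_le_left))
  rw [h3, pow_zero, Subgroup.relIndex_eq_one] at hc
  rintro _ ⟨x, hx, rfl⟩
  refine mem_inf.2 ⟨?_, ?_⟩
  · exact hT.conj_mem x (mem_inf.1 hx).1 n⁻¹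
  · have h4 := (mem_inf.1 (hc hx)).2
    rw [mem_map_equiv, MulAut.conj_symm_apply] at h4
    simpa using h4

end

/-- **Every nontrivial normal subgroup has order divisible by `p`.** -/
theorem noPprime (h2 : P.rank = 2) (hirr : P.Irreducible) (hcore : P.B.normalCore = ⊥) (hq : ParamPow P p)
    (T : Subgroup G) [hT : T.Normal] (hT1 : T ≠ ⊥) : p ∣ Nat.card T := by
  by_contra hTp
  have hnt : Nontrivial T := (Subgroup.nontrivial_iff_ne_bot T).2 hT1
  have hN : ((P.B ⊓ P.N).subgroupOf P.N).Normal := Cfsg.Agent.Tits.OfBN.normal_subgroupOf P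
  obtain ⟨M, cs, hcs⟩ := Cfsg.Agent.S0320.result P
  have hcs' : ∀ i, cs.simple i = QuotientGroup.mk (⟨((Equiv.refl P.S) i : G), P.subset ((Equiv.refl P.S) i).2⟩ : P.N) := hcs
  have hI : Finite P.S := finite_I (Equiv.refl P.S)
  have hC : Cox cs := inferInstance
  set Δ := bldg P (Equiv.refl P.S) cs hcs' with hΔ
  have hTB : T ⊔ P.B = ⊤ := by
    rcases dich P hirr T with h3 | h3
    · exfalso
      have h4 : T ≤ P.B.normalCore := Subgroup.normal_le_normalCore.2 h3
      rw [hcore, le_bot_iff] at h4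
      exact hT1 h4
    · exact h3
  obtain ⟨x, hx⟩ := exists_delta Δ (cc P) (w0 cs)
  obtain ⟨n, rfl⟩ := exists_smul_cc x
  have hcard : Nat.card P.S = 2 := h2
  obtain ⟨i, i', hii, huniv⟩ := Nat.card_eq_two_iff.1 hcard
  -- the opposite node
  have hop : ∀ i, w0 cs * cs.simple (Cfsg.Agent.Tits.Core.op cs i) = cs.simple i * w0 cs := by
    intro i
    rw [hC.op i, ← mul_assoc, ← mul_assoc, hC.w0_mul_self, one_mul]
  have hop2 : ∀ i, w0 cs * cs.simple i = cs.simple (Cfsg.Agent.Tits.Core.op cs i) * w0 cs := by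
    intro i
    rw [hC.op i, mul_assoc, hC.w0_mul_self, mul_one]
  set j := Cfsg.Agent.Tits.Core.op cs i with hj
  have h1 := le_opp P cs hcs' hq (hop i) hx hTp
  have h3 := le_opp P cs hcs' hq (hop2 i) hx hTp
  rw [← hj] at h1 h3
  have c1 := Subgroup.card_le_of_le h1
  have c2 := Subgroup.card_le_of_le h3
  have e1 : ∀ Y : Subgroup G, Nat.card (Y.map (MulAut.conj n⁻¹).toMonoidHom) = Nat.card Y := fun Y =>
    (Nat.card_congr (Y.equivMapOfInjective _ (MulAut.conj n⁻¹).injective).toEquiv).symm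
  rw [e1] at c1 c2
  have h4 : (T ⊓ P.parabolic {(i : G)}).map (MulAut.conj n⁻¹).toMonoidHom = T ⊓ P.parabolic {(j : G)} :=
    Subgroup.eq_of_le_of_card_ge h1 (by rw [e1]; exact c2)
  -- the normalisers
  have key : ∀ k : P.S, normalizer ((T ⊓ P.parabolic {(k : G)} : Subgroup G) : Set G) = P.parabolic {(k : G)} := by
    intro k
    have h5 : P.parabolic {(k : G)} ≤ normalizer ((T ⊓ P.parabolic {(k : G)} : Subgroup G) : Set G) := by
      intro b hb
      refine mem_normalizer_of_le fun d hd => ?_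
      exact mem_inf.2 ⟨hT.conj_mem d (mem_inf.1 hd).1 b, mul_mem (mul_mem hb (mem_inf.1 hd).2) (inv_mem hb)⟩
    by_contra hne
    have h6 : normalizer ((T ⊓ P.parabolic {(k : G)} : Subgroup G) : Set G) = ⊤ := by
      have h7 := eq_parabolic (P := P) ((B_le_parabolic P {(k : G)}).trans h5)
      have h8 : ∀ l : P.S, (l : G) ∈ normalizer ((T ⊓ P.parabolic {(k : G)} : Subgroup G) : Set G) := by
        by_contra hcon
        push Not at hcon
        obtain ⟨l, hl⟩ := hcon
        apply hne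
        have hlk : l ≠ k := by
          rintro rfl
          exact hl (h5 (mem_parabolic_self P _))
        have h9 : P.S ∩ (normalizer ((T ⊓ P.parabolic {(k : G)} : Subgroup G) : Set G) : Set G) = {(k : G)} := by
          ext m
          rw [Set.mem_singleton_iff]
          constructor
          · rintro ⟨hm, hm'⟩
            have h10 : ∀ a b c : P.S, a ≠ b → c = a ∨ c = b := by
              intro a b c hab
              have ha : a ∈ ({i, i'} : Set P.S) := by rw [huniv]; trivial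
              have hb : b ∈ ({i, i'} : Set P.S) := by rw [huniv]; trivial
              have hc : c ∈ ({i, i'} : Set P.S) := by rw [huniv]; trivial
              simp only [Set.mem_insert_iff, Set.mem_singleton_iff] at ha hb hc
              rcases ha with ha | ha <;> rcases hb with hb | hb <;> rcases hc with hc | hc <;>
                first
                | exact absurd (ha.trans hb.symm) hab
                | exact Or.inl (hc.trans ha.symm)
                | exact Or.inr (hc.trans hb.symm)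
            rcases h10 l k ⟨m, hm⟩ hlk with h11 | h11
            · exfalso
              apply hl
              rw [← h11]
              exact hm'
            · rw [← h11]
          · rintro rfl
            exact ⟨k.2, h5 (mem_parabolic_self P _)⟩
        rw [h7, h9]
      rw [h7]
      have h9 : P.S ∩ (normalizer ((T ⊓ P.parabolic {(k : G)} : Subgroup G) : Set G) : Set G) = P.S :=
        Set.inter_eq_left.2 fun m hm => h8 ⟨m, hm⟩
      rw [h9, parabolic_S_eq_top]
    have h7 : (T ⊓ P.parabolic {(k : G)}).Normal := normal_of_normalizer h6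
    have hside := side P hq k.2 h2
    rcases dich P hirr (T ⊓ P.parabolic {(k : G)}) with h8 | h8
    · apply hside.ne
      refine le_antisymm hside.le fun y hy => ?_
      obtain ⟨t, ht, b, hb, rfl⟩ := exists_mul hTB hside.le hy
      exact mul_mem (h8 ht) hb
    · exact hside.ne_top (eq_top_iff.2 (h8 ▸ sup_le inf_le_right hside.le))
  -- conjugate parabolics
  have h5 : (P.parabolic {(i : G)}).map (MulAut.conj n⁻¹).toMonoidHom = P.parabolic {(j : G)} := by
    rw [← key i, ← key j, ← h4]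
    ext x
    rw [mem_map_equiv, MulAut.conj_symm_apply, inv_inv, mem_normalizer_iff, mem_normalizer_iff]
    constructor
    · intro h y
      have h6 := h (n * y * n⁻¹)
      rw [mem_map_equiv, mem_map_equiv, MulAut.conj_symm_apply, MulAut.conj_symm_apply, inv_inv]
      rw [h6]
      have h7 : n * x * n⁻¹ * (n * y * n⁻¹) * (n * x * n⁻¹)⁻¹ = n * (x * y * x⁻¹) * n⁻¹ := by group
      rw [h7]
    · intro h y
      have h6 := h (n⁻¹ * y * n)
      rw [mem_map_equiv, mem_map_equiv, MulAut.conj_symm_apply, MulAut.conj_symm_apply, inv_inv] at h6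
      have h7 : n * (n⁻¹ * y * n) * n⁻¹ = y := by group
      have h8 : n * (x * (n⁻¹ * y * n) * x⁻¹) * n⁻¹ = n * x * n⁻¹ * y * (n * x * n⁻¹)⁻¹ := by group
      rw [h7, h8] at h6
      exact h6
  have h6 := Cfsg.Agent.S0313.result P (Set.singleton_subset_iff.2 i.2) (Set.singleton_subset_iff.2 j.2) n⁻¹ h5
  have h7 : n⁻¹ ∈ normalizer (P.parabolic {(i : G)} : Set G) := by
    refine mem_normalizer_of_le fun y hy => ?_
    rw [h6, ← h5]
    exact ⟨y, hy, rfl⟩
  rw [Cfsg.Agent.S0312.result P (Set.singleton_subset_iff.2 i.2)] at h7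
  have h8 : n ∈ P.parabolic {(i : G)} := by simpa using inv_mem h7
  rw [mem_parabolic_iff_delta P cs hcs', ← hΔ, hx] at h8
  have h9 : w0 cs ∈ WJ cs ({i} : Set P.S) := by
    rcases h8 with h8 | h8
    · rw [h8]; exact one_mem _
    · rw [h8]; exact simple_mem_WJ rfl
  have h10 := hC.descent_mem {i} _ h9 i' (by
    have := hC.len_w0_mul (cs.simple i')
    have h11 := hC.len_mul_w0 (cs.simple i')
    have h12 : cs.length (w0 cs * cs.simple i') + cs.length (cs.simple i') = cs.length (w0 cs) := this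
    rw [cs.length_simple] at h12
    omega)
  exact hii (Set.mem_singleton_iff.1 h10).symm

end Cfsg.Agent.H283.RkTwo
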