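import Cfsg.Agent.Tits.OppRes
import Cfsg.Agent.Tits.Gate
import Cfsg.Agent.Tits.Rigid

/-!
# Subgroups containing the unipotent radical of a Borel subgroup: the orbit of the fundamental chamber

`K` acts on a thick building by isometries, `U` is transitive on the chambers at given distance from `c`, and `Y`
contains `U`. Then the orbit of `c` under `Y` is a residue of `c`.
-/

set_option autoImplicit false

namespace Cfsg.Agent.H283.RkTwo

open Cfsg.Agent.Tits.Core Cfsg.Agent.Tits.Core.Bldg Cfsg.Agent.Tits.OppRes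

variable {I : Type*} {M : CoxeterMatrix I} {W : Type*} [Group W] {cs : CoxeterSystem M W} {C : Type*}
  {K : Type*} [Group K] [MulAction K C]

/-- the type of the residue `Y c` -/
def JY (Δ : Bldg cs C) (c : C) (Y : Subgroup K) : Set I := {i | ∃ y ∈ Y, Δ.δ c (y • c) = cs.simple i}

theorem JY_mono (Δ : Bldg cs C) (c : C) {Y Z : Subgroup K} (h : Y ≤ Z) : JY Δ c Y ⊆ JY Δ c Z :=
  fun _ ⟨y, hy, hi⟩ => ⟨y, h hy, hi⟩

section

variable {Δ : Bldg cs C} (hiso : ∀ (g : K) x y, Δ.δ (g • x) (g • y) = Δ.δ x y) {c : C} {U Y : Subgroup K}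
  (hUY : U ≤ Y) (htr : ∀ y z, Δ.δ c y = Δ.δ c z → ∃ u ∈ U, u • y = z)

include hiso in
theorem delta_inv_smul (g : K) (x y : C) : Δ.δ x (g⁻¹ • y) = Δ.δ (g • x) y := by
  have h := hiso g x (g⁻¹ • y)
  rw [smul_inv_smul] at h
  exact h.symm

include hiso hUY htr in
/-- the panels of the type of `Y` -/
theorem mem_orb_of_pan {i : I} (hi : i ∈ JY Δ c Y) {y : K} (hy : y ∈ Y) {z : C} (hz : Δ.δ (y • c) z = cs.simple i) :
    ∃ y' ∈ Y, y' • c = z := by
  obtain ⟨y₁, hy₁, h1⟩ := hi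
  have h2 : Δ.δ c (y₁ • c) = Δ.δ c (y⁻¹ • z) := by rw [h1, delta_inv_smul hiso, hz]
  obtain ⟨u, hu, h3⟩ := htr _ _ h2
  refine ⟨y * (u * y₁), mul_mem hy (mul_mem (hUY hu) hy₁), ?_⟩
  rw [mul_smul, mul_smul, h3, smul_inv_smul]

include hiso hUY htr in
/-- a left descent of `δ c (y c)` belongs to the type of `Y` -/
theorem mem_JY_of_descent (hth : Δ.Thick) {y : K} (hy : y ∈ Y) {i : I}
    (hlt : cs.length (Δ.δ (y • c) c * cs.simple i) < cs.length (Δ.δ (y • c) c)) : i ∈ JY Δ c Y := by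
  obtain ⟨x, hx1, hx2⟩ := Δ.exists_step (y • c) c i
  obtain ⟨a, b, hab, ha, hb⟩ := hth c i
  obtain ⟨z, hzx, hz⟩ : ∃ z, z ≠ x ∧ Δ.δ c z = cs.simple i := by
    by_cases h : a = x
    · exact ⟨b, fun h' => hab (h.trans h'.symm), hb⟩
    · exact ⟨a, h, ha⟩
  have h1 : Δ.δ x z = cs.simple i :=
    Δ.δ_eq_of_mem_Pan (i := i) (x := c) (Or.inr hx1) (Or.inr hz) (Ne.symm hzx)
  have h2 : Δ.δ (y • c) z = Δ.δ (y • c) c := by
    have h3 := Δ.step_lt (y • c) x z i h1 (by
      rw [hx2, mul_assoc, cs.simple_mul_simple_self, mul_one]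
      exact hlt)
    rw [h3, hx2, mul_assoc, cs.simple_mul_simple_self, mul_one]
  have h4 : Δ.δ c (y⁻¹ • c) = Δ.δ c (y⁻¹ • z) := by
    rw [delta_inv_smul hiso, delta_inv_smul hiso, h2]
  obtain ⟨u, hu, h5⟩ := htr _ _ h4
  refine ⟨y * u * y⁻¹, mul_mem (mul_mem hy (hUY hu)) (inv_mem hy), ?_⟩
  rw [mul_smul, mul_smul, h5, smul_inv_smul, hz]

include hiso hUY htr in
theorem delta_mem (hth : Δ.Thick) {y : K} (hy : y ∈ Y) : Δ.δ c (y • c) ∈ WJ cs (JY Δ c Y) := by
  induction hn : cs.length (Δ.δ c (y • c)) using Nat.strong_induction_on generalizing y with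
  | _ n ih =>
  by_cases h1 : Δ.δ c (y • c) = 1
  · rw [h1]; exact one_mem _
  have h2 : Δ.δ (y • c) c ≠ 1 := by
    rw [Δ.symm c (y • c)]
    exact inv_ne_one.2 h1
  obtain ⟨i, hi⟩ := cs.exists_rightDescent_of_ne_one h2
  have hlt := hi
  rw [CoxeterSystem.IsRightDescent] at hlt
  have hiJ := mem_JY_of_descent hiso hUY htr hth hy hlt
  obtain ⟨x, hx1, hx2⟩ := Δ.exists_step (y • c) c i
  obtain ⟨y', hy', h3⟩ := mem_orb_of_pan hiso hUY htr hiJ (one_mem Y) (z := x) (by rwa [one_smul])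
  have h4 : Δ.δ c ((y'⁻¹ * y) • c) = cs.simple i * Δ.δ c (y • c) := by
    rw [mul_smul, delta_inv_smul hiso, h3, Δ.symm (y • c) x, hx2, mul_inv_rev, cs.inv_simple, ← Δ.symm]
  have h5 := ih (cs.length (Δ.δ c ((y'⁻¹ * y) • c))) (by
    rw [← hn, h4, ← cs.length_inv (Δ.δ c (y • c)), ← cs.length_inv (cs.simple i * _), mul_inv_rev, cs.inv_simple,
      ← Δ.symm]
    exact hlt) (mul_mem (inv_mem hy') hy) rfl
  rw [h4] at h5
  have h6 := mul_mem (simple_mem_WJ (cs := cs) hiJ) h5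
  rwa [cs.simple_mul_simple_cancel_left] at h6

variable [F : Cox cs]

include hiso hUY htr in
theorem mem_orb {z : C} (hz : Δ.δ c z ∈ WJ cs (JY Δ c Y)) : ∃ y ∈ Y, y • c = z := by
  induction hn : cs.length (Δ.δ c z) using Nat.strong_induction_on generalizing z with
  | _ n ih =>
  by_cases h1 : Δ.δ c z = 1
  · exact ⟨1, one_mem _, by rw [one_smul]; exact (Δ.eq_one _ _).1 h1⟩
  obtain ⟨j, hj, hlt⟩ := F.exists_descent hz h1
  obtain ⟨z', hz1, hz2⟩ := Δ.exists_step c z j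
  obtain ⟨y', hy', h3⟩ := ih (cs.length (Δ.δ c z')) (by rw [hz2]; omega) (z := z')
    (by rw [hz2]; exact mul_mem hz (simple_mem_WJ hj)) rfl
  refine mem_orb_of_pan hiso hUY htr hj hy' ?_
  rw [h3, Δ.symm z z', hz1, cs.inv_simple]

include hiso hUY htr in
/-- **The orbit of `c` under `Y` is a residue.** -/
theorem mem_orb_iff (hth : Δ.Thick) {z : C} : (∃ y ∈ Y, y • c = z) ↔ Δ.δ c z ∈ WJ cs (JY Δ c Y) :=
  ⟨fun ⟨_, hy, h⟩ => h ▸ delta_mem hiso hUY htr hth hy, fun h => mem_orb hiso hUY htr h⟩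

end

section Q

variable {Δ : Bldg cs C} (hiso : ∀ (g : K) x y, Δ.δ (g • x) (g • y) = Δ.δ x y) (c : C) (J : Set I)

/-- the standard parabolic subgroup of type `J` -/
def QJ [Cox cs] (Δ : Bldg cs C) (hiso : ∀ (g : K) x y, Δ.δ (g • x) (g • y) = Δ.δ x y) (c : C) (J : Set I) :
    Subgroup K where
  carrier := {g | Δ.δ c (g • c) ∈ WJ cs J}
  one_mem' := by
    show Δ.δ c ((1 : K) • c) ∈ WJ cs J
    rw [one_smul]; exact mem_Res_self J c
  mul_mem' := fun {g k} hg hk => by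
    show Δ.δ c ((g * k) • c) ∈ WJ cs J
    refine delta_mem_of_mem (y := g • c) hg ?_
    rw [mul_smul, hiso]
    exact hk
  inv_mem' := fun {g} hg => by
    show Δ.δ c (g⁻¹ • c) ∈ WJ cs J
    rw [delta_inv_smul hiso, Δ.symm c (g • c)]
    exact inv_mem hg

theorem mem_QJ [Cox cs] {g : K} : g ∈ QJ Δ hiso c J ↔ Δ.δ c (g • c) ∈ WJ cs J := Iff.rfl

theorem stab_le_QJ [Cox cs] {g : K} (h : g • c = c) : g ∈ QJ Δ hiso c J := by
  rw [mem_QJ, h]; exact mem_Res_self J c

end Q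

section mem

variable {Δ : Bldg cs C} (hiso : ∀ (g : K) x y, Δ.δ (g • x) (g • y) = Δ.δ x y) {c : C} {U Y : Subgroup K}
  (hUY : U ≤ Y) (htr : ∀ y z, Δ.δ c y = Δ.δ c z → ∃ u ∈ U, u • y = z) [F : Cox cs]

include hUY htr in
theorem le_QJ (hth : Δ.Thick) : Y ≤ QJ Δ hiso c (JY Δ c Y) := fun _ hy => delta_mem hiso hUY htr hth hy

include hUY htr in
/-- A subgroup containing the stabiliser of `c` is parabolic. -/
theorem eq_QJ (hth : Δ.Thick) (hs : ∀ g : K, g • c = c → g ∈ Y) : Y = QJ Δ hiso c (JY Δ c Y) := by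
  refine le_antisymm (le_QJ hiso hUY htr hth) fun g hg => ?_
  obtain ⟨y, hy, h1⟩ := mem_orb hiso hUY htr ((mem_QJ hiso c _).1 hg)
  have h2 : y⁻¹ * g ∈ Y := hs _ (by rw [mul_smul, ← h1, inv_smul_smul])
  have h3 := mul_mem hy h2
  rwa [mul_inv_cancel_left] at h3

end mem

/-- `s_i ∈ W_J` only for `i ∈ J`. -/
theorem mem_of_simple_mem [F : Cox cs] {J : Set I} {i : I} (h : cs.simple i ∈ WJ cs J) : i ∈ J :=
  F.descent_mem J _ h i (by
    rw [cs.simple_mul_simple_self, cs.length_one, cs.length_simple]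
    exact Nat.one_pos)

/-- `ℓ (s_i s_j) > ℓ (s_i)` for `i ≠ j`. -/
theorem length_lt [F : Cox cs] {i j : I} (h : i ≠ j) :
    cs.length (cs.simple i) < cs.length (cs.simple i * cs.simple j) := by
  by_contra hle
  have h1 := cs.length_mul_simple_ne (cs.simple i) j
  have h2 := F.descent_mem {i} _ (simple_mem_WJ rfl) j (by omega)
  exact h (Set.mem_singleton_iff.1 h2).symm

theorem mem_WJ_singleton {i : I} {w : W} (h : w ∈ WJ cs {i}) : w = 1 ∨ w = cs.simple i := by
  unfold WJ at h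
  rw [Set.image_singleton] at h
  induction h using Subgroup.closure_induction with
  | mem x hx => exact Or.inr hx
  | one => exact Or.inl rfl
  | mul x y _ _ hx hy =>
    rcases hx with rfl | rfl <;> rcases hy with rfl | rfl
    · exact Or.inl (one_mul _)
    · exact Or.inr (one_mul _)
    · exact Or.inr (mul_one _)
    · exact Or.inl (cs.simple_mul_simple_self i)
  | inv x _ hx =>
    rcases hx with rfl | rfl
    · exact Or.inl inv_one
    · exact Or.inr (cs.inv_simple i)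

/-- **`s_j s_i s_j ∈ W_A` with `i ∈ A`, `j ∉ A` only if `s_i` and `s_j` commute.** -/
theorem comm_of_mem [F : Cox cs] {A : Set I} {i j : I} (hi : i ∈ A) (hj : j ∉ A)
    (h : cs.simple j * cs.simple i * cs.simple j ∈ WJ cs A) :
    cs.simple i * cs.simple j = cs.simple j * cs.simple i := by
  have h1 : cs.simple j * cs.simple i * cs.simple j ∈ WJ cs {i, j} :=
    mul_mem (mul_mem (simple_mem_WJ (by simp)) (simple_mem_WJ (by simp))) (simple_mem_WJ (by simp))
  have h2 := F.WJ_inter h h1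
  have h3 : A ∩ {i, j} = {i} := by
    ext k
    simp only [Set.mem_inter_iff, Set.mem_insert_iff, Set.mem_singleton_iff]
    constructor
    · rintro ⟨h4, rfl | rfl⟩
      · rfl
      · exact absurd h4 hj
    · rintro rfl
      exact ⟨hi, Or.inl rfl⟩
  rw [h3] at h2
  rcases mem_WJ_singleton h2 with h4 | h4
  · exfalso
    have h5 : cs.simple i = 1 := by
      have h6 : cs.simple j * (cs.simple j * cs.simple i * cs.simple j) * cs.simple j = cs.simple j * 1 * cs.simple j := by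
        rw [h4]
      rw [mul_one, cs.simple_mul_simple_self, mul_assoc, mul_assoc, mul_assoc, cs.simple_mul_simple_self, mul_one,
        ← mul_assoc, cs.simple_mul_simple_self, one_mul] at h6
      exact h6
    have h7 := cs.length_simple i
    rw [h5, cs.length_one] at h7
    exact absurd h7 (by norm_num)
  · calc cs.simple i * cs.simple j = (cs.simple j * cs.simple i * cs.simple j) * cs.simple j := by rw [h4]
      _ = cs.simple j * cs.simple i := by rw [mul_assoc, cs.simple_mul_simple_self, mul_one]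

end Cfsg.Agent.H283.RkTwo
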