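import Cfsg.Agent.H283.RkTwo.OfBN

/-!
# The number of chambers at given distance

If the parameters are powers of `p` then the number of chambers at given distance from a chamber is a power of `p`.
-/

set_option autoImplicit false

namespace Cfsg.Agent.H283.RkTwo

open Subgroup Cfsg Cfsg.Agent.LieExceptional.BNPairCore Cfsg.Agent.Tits.Core Cfsg.Agent.Tits.Core.Bldg
  Cfsg.Agent.Tits.OfBN Cfsg.Agent.Schreier.BNSch Cfsg.Agent.Tits.OppRes Cfsg.Agent.FixBN Cfsg.Agent.FixBN.OfBN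

variable {G : Type*} [Group G] (P : Cfsg.BNPair G) {p : ℕ}

variable [hN : ((P.B ⊓ P.N).subgroupOf P.N).Normal]
variable {I : Type*} {M : CoxeterMatrix I} (e : I ≃ P.S) (cs : CoxeterSystem M (WP P))
  (hcs : ∀ i, cs.simple i = QuotientGroup.mk (⟨(e i : G), P.subset (e i).2⟩ : P.N))

omit hN in
/-- `B` is transitive on the chambers at given distance -/
theorem transB {y z : G ⧸ P.B} (h : Tits.OfBN.dist P (cc P) y = Tits.OfBN.dist P (cc P) z) :
    ∃ b ∈ P.B, b • y = z := by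
  obtain ⟨g, hg1, hg2⟩ := Cfsg.Agent.Tits.OfBN.trans P (cc P) y (cc P) z h
  exact ⟨g, smul_cc.1 hg1, hg2⟩

omit hN in
theorem dist_cc (g : G) : Tits.OfBN.dist P (cc P) (g • cc P) = wt P g := by
  have h7 : g • cc P = QuotientGroup.mk g := by unfold cc; rw [smul_mk, mul_one]
  rw [h7]
  show Tits.OfBN.dist P (QuotientGroup.mk 1) (QuotientGroup.mk g) = _
  rw [Tits.OfBN.dist_mk, inv_one, one_mul]

/-- the number of chambers at given distance is the length of an orbit of `B` -/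
theorem card_sphB (t : G) : Nat.card (Sph cs (bldg P e cs hcs) ((bldg P e cs hcs).δ (cc P) (t • cc P))) =
    (P.B ⊓ P.B.map (MulAut.conj t).toMonoidHom).relIndex P.B := by
  set Δ := bldg P e cs hcs with hΔ
  have hiso : ∀ (g : G) (a b : G ⧸ P.B), Δ.δ (g • a) (g • b) = Δ.δ a b := fun g a b => dist_smul P g a b
  have h1 : Sph cs Δ (Δ.δ (cc P) (t • cc P)) = MulAction.orbit P.B (t • cc P) := by
    ext z
    constructor
    · intro hz
      obtain ⟨u, hu, h2⟩ := transB P (y := t • cc P) (z := z) (Eq.symm hz)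
      exact ⟨⟨u, hu⟩, h2⟩
    · rintro ⟨⟨b, hb⟩, rfl⟩
      show Δ.δ (cc P) (b • t • cc P) = Δ.δ (cc P) (t • cc P)
      have h6 : b • cc P = cc P := smul_cc.2 hb
      calc Δ.δ (cc P) (b • t • cc P) = Δ.δ (b • cc P) (b • t • cc P) := by rw [h6]
        _ = _ := by rw [hiso]
  rw [h1, Nat.card_coe_set_eq, ← MulAction.index_stabilizer]
  have h2 : MulAction.stabilizer P.B (t • cc P) = (P.B ⊓ P.B.map (MulAut.conj t).toMonoidHom).subgroupOf P.B := by
    ext ⟨b, hb⟩
    rw [MulAction.mem_stabilizer_iff, Subgroup.mem_subgroupOf, Subgroup.mem_inf]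
    change b • t • cc P = t • cc P ↔ b ∈ P.B ∧ b ∈ P.B.map (MulAut.conj t).toMonoidHom
    rw [Subgroup.mem_map_equiv, MulAut.conj_symm_apply, ← mul_smul, eq_comm, smul_cc_eq]
    have h3 : t⁻¹ * (b * t) = t⁻¹ * b * t := by group
    rw [h3]
    exact ⟨fun h => ⟨hb, h⟩, fun h => h.2⟩
  rw [h2]
  rfl

variable [Finite G]

/-- `|Sph (w s)| = |Sph w| |Sph s|` -/
theorem card_sph_mul {w : WP P} {i : I} (hlt : cs.length w < cs.length (w * cs.simple i)) :
    Nat.card (Sph cs (bldg P e cs hcs) (w * cs.simple i)) =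
      Nat.card (Sph cs (bldg P e cs hcs) w) * Nat.card (Sph cs (bldg P e cs hcs) (cs.simple i)) := by
  have hI : Finite I := finite_I e
  have hC : Cox cs := inferInstance
  set Δ := bldg P e cs hcs with hΔ
  have hiso : ∀ (g : G) (a b : G ⧸ P.B), Δ.δ (g • a) (g • b) = Δ.δ a b := fun g a b => dist_smul P g a b
  have hch : ∀ x : Sph cs Δ w, ∃ g : G, g • cc P = x := fun x => exists_smul_cc _
  choose g hg using hch
  rw [← Nat.card_prod]
  have hx : ∀ x : Sph cs Δ w, Δ.δ (cc P) x = w := fun x => x.2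
  have hadj : ∀ (x : Sph cs Δ w) (z : G ⧸ P.B), Δ.δ (cc P) z = cs.simple i → Δ.δ x (g x • z) = cs.simple i := by
    intro x z hz
    rw [← hg x, hiso, hz]
  have huniq : ∀ (x x' : Sph cs Δ w) (y : G ⧸ P.B), Δ.δ x y = cs.simple i → Δ.δ x' y = cs.simple i → x = x' := by
    intro x x' y hy hy'
    apply Subtype.ext
    refine Tits.Rigid.eq_of_short (Δ := Δ) (x := cc P) (w := w) (j := i) x.2 x'.2 hlt ?_
    refine Tits.Rigid.mem_Pan_Res ?_
    refine Δ.mem_Pan_trans (y := y) (Or.inr hy) ?_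
    exact Δ.mem_Pan_symm (Or.inr hy')
  let f : Sph cs Δ w × Sph cs Δ (cs.simple i) → Sph cs Δ (w * cs.simple i) := fun q =>
    ⟨g q.1 • q.2, by
      have h1 := Δ.step_lt (cc P) q.1 (g q.1 • (q.2 : G ⧸ P.B)) i (hadj q.1 q.2 q.2.2) (by rw [hx]; exact hlt)
      rw [hx] at h1
      exact h1⟩
  symm
  refine Nat.card_eq_of_bijective f ⟨?_, ?_⟩
  · rintro ⟨x, z⟩ ⟨x', z'⟩ h
    have h1 : g x • (z : G ⧸ P.B) = g x' • (z' : G ⧸ P.B) := congrArg Subtype.val h
    have h2 : x = x' := huniq x x' (g x • (z : G ⧸ P.B)) (hadj x z z.2) (by rw [h1]; exact hadj x' z' z'.2)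
    subst h2
    have h3 : (z : G ⧸ P.B) = z' := smul_left_cancel _ h1
    rw [Subtype.ext h3]
  · rintro ⟨y, hy⟩
    have hy' : Δ.δ (cc P) y = w * cs.simple i := hy
    obtain ⟨x, hx1, hx2⟩ := Δ.exists_step (cc P) y i
    rw [hy', mul_assoc, cs.simple_mul_simple_self, mul_one] at hx2
    have h1 : Δ.δ x y = cs.simple i := by rw [Δ.symm y x, hx1, cs.inv_simple]
    refine ⟨⟨⟨x, hx2⟩, ⟨(g ⟨x, hx2⟩)⁻¹ • y, ?_⟩⟩, ?_⟩
    · show Δ.δ (cc P) ((g ⟨x, hx2⟩)⁻¹ • y) = cs.simple i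
      rw [delta_inv_smul hiso, hg, h1]
    · apply Subtype.ext
      show g ⟨x, hx2⟩ • (g ⟨x, hx2⟩)⁻¹ • y = y
      rw [smul_inv_smul]

/-- **The number of chambers at given distance is a power of `p`.** -/
theorem card_sph_pow (hq : ParamPow P p) (w : WP P) : ∃ a, Nat.card (Sph cs (bldg P e cs hcs) w) = p ^ a := by
  have hI : Finite I := finite_I e
  have hC : Cox cs := inferInstance
  set Δ := bldg P e cs hcs with hΔ
  have hsim : ∀ i, ∃ a, Nat.card (Sph cs Δ (cs.simple i)) = p ^ a := by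
    intro i
    obtain ⟨a, ha⟩ := hq (e i) (e i).2
    refine ⟨a, ?_⟩
    have h1 : Δ.δ (cc P) ((e i : G) • cc P) = cs.simple i := by
      show Tits.OfBN.dist P (cc P) ((e i : G) • cc P) = _
      rw [dist_cc, hcs]
      exact wt_of_mem P (n := ⟨(e i : G), P.subset (e i).2⟩) (self_mem_C _)
    rw [← h1, hΔ, card_sphB, ha]
  induction hn : cs.length w using Nat.strong_induction_on generalizing w with
  | _ n ih =>
  by_cases h1 : w = 1
  · refine ⟨0, ?_⟩
    have h2 : Sph cs Δ w = {cc P} := by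
      ext z
      rw [Set.mem_singleton_iff]
      constructor
      · intro hz
        have hz' : Δ.δ (cc P) z = w := hz
        rw [h1, Δ.eq_one] at hz'
        exact hz'.symm
      · rintro rfl
        show Δ.δ (cc P) (cc P) = w
        rw [h1, delta_self]
    rw [h2]
    simp
  · obtain ⟨i, hi⟩ := cs.exists_rightDescent_of_ne_one h1
    rw [CoxeterSystem.IsRightDescent] at hi
    obtain ⟨a, ha⟩ := ih (cs.length (w * cs.simple i)) (by omega) (w * cs.simple i) rfl
    obtain ⟨b, hb⟩ := hsim i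
    have h2 := card_sph_mul P e cs hcs (w := w * cs.simple i) (i := i) (by
      rw [mul_assoc, cs.simple_mul_simple_self, mul_one]
      exact hi)
    rw [mul_assoc, cs.simple_mul_simple_self, mul_one, ← hΔ, ha, hb, ← pow_add] at h2
    exact ⟨_, h2⟩

omit hN in
/-- **All the indices `|B : B ∩ g B g⁻¹|` are powers of `p`.** -/
theorem relIndex_pow (hq : ParamPow P p) (g : G) :
    ∃ a, (P.B ⊓ P.B.map (MulAut.conj g).toMonoidHom).relIndex P.B = p ^ a := by
  have hN : ((P.B ⊓ P.N).subgroupOf P.N).Normal := Cfsg.Agent.Tits.OfBN.normal_subgroupOf P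
  obtain ⟨M, cs, hcs⟩ := Cfsg.Agent.S0320.result P
  obtain ⟨a, ha⟩ := card_sph_pow P (Equiv.refl P.S) cs hcs hq ((bldg P (Equiv.refl P.S) cs hcs).δ (cc P) (g • cc P))
  exact ⟨a, (card_sphB P (Equiv.refl P.S) cs hcs g).symm.trans ha⟩

end Cfsg.Agent.H283.RkTwo
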